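import Groth.Agent.Stk19b.GrpdSplit.Scheme
import Groth.Agent.GrpdLib.StabConj

/-!
# Sets of loops at a point closed under division
-/

set_option autoImplicit false
set_option backward.isDefEq.respectTransparency false

universe u

noncomputable section

open CategoryTheory CategoryTheory.Limits AlgebraicGeometry

namespace Groth.Agent.Stk19b.GrpdSplit

open Groth.Agent.GrpdLib (cmp cmp_congr cmp_s cmp_t i_comp_t i_comp_s comp_cmp)

variable {S : Scheme.{u}} (G : Grpd.GroupoidScheme S)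

/-- Splitting around a finite set of loops closed under division. -/
theorem exists_split_of_loops [IsAffine G.U] [IsSeparated G.s] [Flat G.s] [LocallyOfFinitePresentation G.s] (u : G.U)
    (F : Set G.R) (hF : F.Finite) (hsu : ∀ r ∈ F, G.s r = u) (htu : ∀ r ∈ F, G.t r = u)
    (hqf : ∀ r ∈ F, Dual3.QuasiFiniteAt G.s r) (he : G.e u ∈ F)
    (hdiv : ∀ (L : Type u) [Field L] (α β : Spec (CommRingCat.of L) ⟶ G.R)
      (h : β ≫ G.s = (α ≫ G.i) ≫ G.t), (∀ x, α x ∈ F) → (∀ x, β x ∈ F) →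
        ∀ x, cmp G β (α ≫ G.i) h x ∈ F) :
    ∃ (G' : Grpd.GroupoidScheme S) (φ : Grpd.GroupoidScheme.Hom G' G) (u' : ↥G'.U),
      IsAffine G'.U ∧ Etale φ.fU ∧ φ.fU u' = u ∧ IsIso (φ.fU.residueFieldMap u') ∧
      IsPullback φ.fR G'.j G.j
        (pullback.map G'.pU G'.pU G.pU G.pU φ.fU φ.fU (𝟙 S)
          ((Category.comp_id _).trans φ.fU_over.symm) ((Category.comp_id _).trans φ.fU_over.symm)) ∧
      ∃ (P : Scheme.{u}) (ιP : P ⟶ G'.R), IsOpenImmersion ιP ∧
        (∃ eP : G'.U ⟶ P, eP ≫ ιP = G'.e) ∧ (∃ iP : P ⟶ P, iP ≫ ιP = ιP ≫ G'.i) ∧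
        (∃ cP : pullback (ιP ≫ G'.s) (ιP ≫ G'.t) ⟶ P,
          cP ≫ ιP = pullback.map (ιP ≫ G'.s) (ιP ≫ G'.t) G'.s G'.t ιP ιP (𝟙 G'.U)
            (Category.comp_id _) (Category.comp_id _) ≫ G'.c) ∧
        IsFinite (ιP ≫ G'.s) ∧ IsFinite (ιP ≫ G'.t) ∧
        ∀ r' : ↥G'.R, G'.s r' = u' → G'.t r' = u' → φ.fR r' ∈ F → ∃ p : ↥P, ιP p = r' := by
  obtain ⟨V, hV, hFV, hVu, hlqf⟩ := exists_affine_fibre G.s u F hF hsu hqf
  haveI := hlqf
  obtain ⟨G', φ, u', h1, h2, h3, h4, h5, P, ιP, h6, h7, h8, h9, h10, h11, h12⟩ :=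
    exists_split G u V hV (hFV he) (fun r hr h => htu r (hVu r hr h))
      (fun L _ α β h hα hβ hu x => hFV (hdiv L α β h (fun y => hVu _ (hα y) (hu y)) (fun y => hVu _ (hβ y) (by
        have := congrArg (fun m => m y) (h.trans (i_comp_t G α))
        simp only [Scheme.Hom.comp_apply] at this
        exact this.trans (hu y))) x))
  exact ⟨G', φ, u', h1, h2, h3, h4, h5, P, ιP, h6, h7, h8, h9, h10, h11, fun r' hs ht hr => h12 r' hs ht (hFV hr)⟩

/-- All loops at a point are closed under division. -/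
theorem div_loops (u : G.U) {L : Type u} [Field L] (α β : Spec (CommRingCat.of L) ⟶ G.R)
    (h : β ≫ G.s = (α ≫ G.i) ≫ G.t) (hα : ∀ x, G.s (α x) = u ∧ G.t (α x) = u)
    (hβ : ∀ x, G.s (β x) = u ∧ G.t (β x) = u) (x : Spec (CommRingCat.of L)) :
    G.s (cmp G β (α ≫ G.i) h x) = u ∧ G.t (cmp G β (α ≫ G.i) h x) = u := by
  rw [← Scheme.Hom.comp_apply, ← Scheme.Hom.comp_apply, cmp_s, cmp_t, i_comp_s, Scheme.Hom.comp_apply,
    Scheme.Hom.comp_apply]
  exact ⟨(hα x).2, (hβ x).2⟩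

/-- The loops in the image of the stabilizer. -/
theorem mem_range_stabArrow {T : Scheme.{u}} (γ : T ⟶ G.R) (h : γ ≫ G.t = γ ≫ G.s) (x : T) (u : G.U)
    (hu : G.t (γ x) = u) :
    γ x ∈ GrpdLib.stabArrow G '' {g | G.stabilizerToU g = u} := by
  refine ⟨GrpdLib.stabMk G γ h x, ?_, ?_⟩
  · show G.stabilizerToU _ = u
    rw [← Scheme.Hom.comp_apply, GrpdLib.stabMk_toU, Scheme.Hom.comp_apply, hu]
  · rw [← Scheme.Hom.comp_apply, GrpdLib.stabMk_arrow]

/-- A field-valued point over a point of the source of a morphism lifts after extending the field. -/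
theorem exists_field_lift {X Y : Scheme.{u}} (f : X ⟶ Y) {L : Type u} [Field L]
    (α : Spec (CommRingCat.of L) ⟶ Y) (x : Spec (CommRingCat.of L)) (g : X) (h : f g = α x) :
    ∃ (K : Type u) (_ : Field K) (β : Spec (CommRingCat.of K) ⟶ Spec (CommRingCat.of L))
      (γ : Spec (CommRingCat.of K) ⟶ X), β ≫ α = γ ≫ f := by
  obtain ⟨z, -, -⟩ := Scheme.Pullback.exists_preimage_pullback (f := α) (g := f) x g h.symm
  refine ⟨(pullback α f).residueField z, inferInstance, (pullback α f).fromSpecResidueField z ≫ pullback.fst _ _,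
    (pullback α f).fromSpecResidueField z ≫ pullback.snd _ _, ?_⟩
  simp only [Category.assoc, pullback.condition]

theorem cancel_field {U : Scheme.{u}} [IsAffine U] {L K : Type u} [Field L] [Field K]
    (β : Spec (CommRingCat.of K) ⟶ Spec (CommRingCat.of L)) (m₁ m₂ : Spec (CommRingCat.of L) ⟶ U)
    (h : β ≫ m₁ = β ≫ m₂) : m₁ = m₂ := by
  obtain ⟨b, rfl⟩ : ∃ b, Spec.map b = β := ⟨Spec.preimage β, Spec.map_preimage β⟩
  rw [← cancel_mono U.isoSpec.hom]
  obtain ⟨k₁, e₁⟩ : ∃ k, Spec.map k = m₁ ≫ U.isoSpec.hom := ⟨Spec.preimage _, Spec.map_preimage _⟩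
  obtain ⟨k₂, e₂⟩ : ∃ k, Spec.map k = m₂ ≫ U.isoSpec.hom := ⟨Spec.preimage _, Spec.map_preimage _⟩
  have h' : Spec.map (k₁ ≫ b) = Spec.map (k₂ ≫ b) := by
    rw [Spec.map_comp, Spec.map_comp, e₁, e₂, ← Category.assoc, h, Category.assoc]
  rw [← e₁, ← e₂]
  congr 1
  ext r
  exact b.hom.injective (congrArg (fun m => m.hom r) (Spec.map_injective h'))

/-- Arrows to one point with equal residue maps to the objects are loops. -/
theorem loop_of_mem [IsAffine G.U] {L : Type u} [Field L] (α : Spec (CommRingCat.of L) ⟶ G.R) (u : G.U)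
    (hα : ∀ x, α x ∈ GrpdLib.stabArrow G '' {g | G.stabilizerToU g = u}) : α ≫ G.t = α ≫ G.s := by
  obtain ⟨g, -, hg⟩ := hα (IsLocalRing.closedPoint L)
  obtain ⟨K, _, β, γ, h⟩ := exists_field_lift (GrpdLib.stabArrow G) α _ g hg
  refine cancel_field β _ _ ?_
  rw [← Category.assoc, h, Category.assoc, GrpdLib.stabArrow_t, ← Category.assoc, h, Category.assoc,
    GrpdLib.stabArrow_s]

/-- The image of a loop in the image of the stabilizer. -/
theorem div_stab [IsAffine G.U] (u : G.U) {L : Type u} [Field L] (α β : Spec (CommRingCat.of L) ⟶ G.R)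
    (h : β ≫ G.s = (α ≫ G.i) ≫ G.t) (hα : ∀ x, α x ∈ GrpdLib.stabArrow G '' {g | G.stabilizerToU g = u})
    (hβ : ∀ x, β x ∈ GrpdLib.stabArrow G '' {g | G.stabilizerToU g = u}) (x : Spec (CommRingCat.of L)) :
    cmp G β (α ≫ G.i) h x ∈ GrpdLib.stabArrow G '' {g | G.stabilizerToU g = u} := by
  refine mem_range_stabArrow G _ ?_ x u ?_
  · rw [cmp_t, cmp_s, i_comp_s, loop_of_mem G β u hβ, loop_of_mem G α u hα, h, i_comp_t]
  · rw [← Scheme.Hom.comp_apply, cmp_t, Scheme.Hom.comp_apply]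
    obtain ⟨g, hg, e⟩ := hβ x
    rw [← e, ← Scheme.Hom.comp_apply, GrpdLib.stabArrow_t]
    exact hg

/-- The identity is closed under division. -/
theorem div_unit (u : G.U) {L : Type u} [Field L] (α β : Spec (CommRingCat.of L) ⟶ G.R)
    (h : β ≫ G.s = (α ≫ G.i) ≫ G.t) (hα : ∀ x, α x ∈ ({G.e u} : Set G.R))
    (hβ : ∀ x, β x ∈ ({G.e u} : Set G.R)) (x : Spec (CommRingCat.of L)) :
    cmp G β (α ≫ G.i) h x ∈ ({G.e u} : Set G.R) := by
  obtain ⟨K, _, π, γ, hγ⟩ := exists_field_lift G.e α x u (hα x).symm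
  obtain ⟨K', _, π', γ', hγ'⟩ := exists_field_lift G.e (π ≫ β) (IsLocalRing.closedPoint K) u
    (by rw [Scheme.Hom.comp_apply]; exact (hβ _).symm)
  let δ := π' ≫ π
  have ea : δ ≫ α = (π' ≫ γ) ≫ G.e := by rw [Category.assoc, hγ, Category.assoc]
  have eb : δ ≫ β = γ' ≫ G.e := (Category.assoc _ _ _).trans hγ'
  have hsrc : γ' = π' ≫ γ := by
    have e1 := congrArg (δ ≫ ·) (h.trans (i_comp_t G α))
    simp only [← Category.assoc, eb, ea] at e1
    simpa only [Category.assoc, G.e_s, Category.comp_id] using e1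
  have key : δ ≫ cmp G β (α ≫ G.i) h = γ' ≫ G.e := by
    rw [comp_cmp]
    refine (cmp_congr G (eb.trans (congrArg (· ≫ G.e) hsrc)) ?_ _ ?_).trans ((G.comp_i ((π' ≫ γ) ≫ G.e)).trans ?_)
    · rw [← Category.assoc, ea]
    · rw [i_comp_t]
    · rw [Category.assoc, ← Category.assoc G.e, G.e_t, Category.id_comp, hsrc]
  have hx : x = δ (IsLocalRing.closedPoint K') := by
    show (x : PrimeSpectrum L) = _
    exact Subsingleton.elim _ _
  show _ = G.e u
  rw [hx, ← Scheme.Hom.comp_apply, key]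
  have := congrArg (fun m => G.s (m (IsLocalRing.closedPoint K'))) eb
  simp only [Scheme.Hom.comp_apply] at this
  rw [(hβ _ : _ = G.e u), ← Scheme.Hom.comp_apply, G.e_s] at this
  rw [Scheme.Hom.comp_apply]
  refine congrArg G.e ?_
  rw [← Scheme.Hom.comp_apply G.e G.s, G.e_s] at this
  exact this.symm

end Groth.Agent.Stk19b.GrpdSplit
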