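import Mathlib.RingTheory.FinitePresentation
import Mathlib.RingTheory.Finiteness.ModuleFinitePresentation
import Mathlib.RingTheory.TensorProduct.Maps
import Mathlib.RingTheory.FiniteStability
import Mathlib.LinearAlgebra.Matrix.ToLin

/-!
# The chart of quotients of rank `n` with a given basis
-/

set_option autoImplicit false
set_option backward.isDefEq.respectTransparency false

universe u

noncomputable section

open TensorProduct Matrix

namespace Groth.Agent.Stk19b.GrpdSplit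

variable {A B : Type u} [CommRing A] [CommRing B] [Algebra A B] {n : ℕ} (b : Fin n → B)

/-- Linear combinations of the given elements. -/
def comb (T : Type u) [CommRing T] [Algebra A T] : (Fin n → T) →ₗ[T] T ⊗[A] B where
  toFun v := ∑ j, v j • ((1 : T) ⊗ₜ[A] b j)
  map_add' v w := by simp [add_smul, Finset.sum_add_distrib]
  map_smul' r v := by simp [Finset.smul_sum, mul_smul]

/-- An ideal of `T ⊗ B` whose quotient has the given elements as a basis. -/
def IsBasisQuot (T : Type u) [CommRing T] [Algebra A T] (J : Ideal (T ⊗[A] B)) : Prop :=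
  (∀ z, ∃ v, z - comb b T v ∈ J) ∧ ∀ v, comb b T v ∈ J → v = 0

theorem IsBasisQuot.eq_of_le {T : Type u} [CommRing T] [Algebra A T] {J J' : Ideal (T ⊗[A] B)}
    (h : IsBasisQuot b T J) (h' : IsBasisQuot b T J') (hle : J' ≤ J) : J' = J := by
  refine le_antisymm hle fun z hz => ?_
  obtain ⟨v, hv⟩ := h'.1 z
  rwa [h.2 v (by simpa using J.sub_mem hz (hle hv)), map_zero, sub_zero] at hv

/-- The map on base changes induced by a map of coefficients. -/
abbrev mapT {T T' : Type u} [CommRing T] [Algebra A T] [CommRing T'] [Algebra A T'] (ψ : T →ₐ[A] T') :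
    T ⊗[A] B →ₐ[A] T' ⊗[A] B :=
  Algebra.TensorProduct.map ψ (AlgHom.id A B)

theorem mapT_comb {T T' : Type u} [CommRing T] [Algebra A T] [CommRing T'] [Algebra A T'] (ψ : T →ₐ[A] T')
    (v : Fin n → T) : mapT ψ (comb b T v) = comb b T' (ψ ∘ v) := by
  simp [comb, TensorProduct.smul_tmul']

/-- Evaluation of polynomials at commuting matrices. -/
theorem exists_eval {T : Type u} [CommRing T] [Algebra A T] {m : ℕ} (X : Fin m → Matrix (Fin n) (Fin n) T)
    (hX : ∀ i j, X i * X j = X j * X i) :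
    ∃ φ : MvPolynomial (Fin m) A →ₐ[A] Matrix (Fin n) (Fin n) T, ∀ i, φ (MvPolynomial.X i) = X i := by
  letI := Algebra.adjoinCommRingOfComm A (s := Set.range X) (by rintro _ ⟨i, rfl⟩ _ ⟨j, rfl⟩; exact hX i j)
  refine ⟨(Algebra.adjoin A (Set.range X)).val.comp
    (MvPolynomial.aeval fun i => (⟨X i, Algebra.subset_adjoin ⟨i, rfl⟩⟩ : Algebra.adjoin A (Set.range X))), fun i => ?_⟩
  simp

/-- A matrix datum: an action on the free module of rank `n` with a vector on which the given elements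
give the standard basis. -/
def IsDatum (T : Type u) [CommRing T] [Algebra A T] (σ : B →ₐ[A] Matrix (Fin n) (Fin n) T) (d : Fin n → T) : Prop :=
  ∀ j, σ (b j) *ᵥ d = Pi.single j 1

section datum

variable {T : Type u} [CommRing T] [Algebra A T] (σ : B →ₐ[A] Matrix (Fin n) (Fin n) T) (d : Fin n → T)

/-- The extension of the action to the base change. -/
def act : T ⊗[A] B →ₐ[T] Matrix (Fin n) (Fin n) T :=
  Algebra.TensorProduct.lift (Algebra.ofId T _) σ fun r y => Algebra.commutes r (σ y)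

theorem act_tmul (r : T) (y : B) : act σ (r ⊗ₜ[A] y) = r • σ y := by
  rw [act, Algebra.TensorProduct.lift_tmul, Algebra.ofId_apply, ← Algebra.smul_def]

/-- The orbit map of the vector. -/
def orb : T ⊗[A] B →ₗ[T] (Fin n → T) where
  toFun z := act σ z *ᵥ d
  map_add' z w := by rw [map_add, Matrix.add_mulVec]
  map_smul' r z := by rw [map_smul, Matrix.smul_mulVec]; rfl

theorem orb_apply (z : T ⊗[A] B) : orb σ d z = act σ z *ᵥ d := rfl

/-- The annihilator of the vector. -/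
def ann : Ideal (T ⊗[A] B) where
  carrier := {z | orb σ d z = 0}
  add_mem' {z w} hz hw := by
    show orb σ d (z + w) = 0
    rw [map_add, show orb σ d z = 0 from hz, show orb σ d w = 0 from hw, add_zero]
  zero_mem' := map_zero _
  smul_mem' w z (hz : orb σ d z = 0) := by
    show orb σ d (w * z) = 0
    rw [orb_apply] at hz ⊢
    rw [map_mul, ← Matrix.mulVec_mulVec, hz, Matrix.mulVec_zero]

theorem orb_comb (h : IsDatum b T σ d) (v : Fin n → T) : orb σ d (comb b T v) = v := by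
  show orb σ d (∑ j, v j • ((1 : T) ⊗ₜ[A] b j)) = v
  rw [map_sum]
  funext i
  simp [orb_apply, act_tmul, h _, Finset.sum_apply, Pi.single_apply]

theorem isBasisQuot_ann (h : IsDatum b T σ d) : IsBasisQuot b T (ann σ d) := by
  refine ⟨fun z => ⟨orb σ d z, ?_⟩, fun v hv => (orb_comb b σ d h v).symm.trans hv⟩
  show orb σ d _ = 0
  rw [map_sub, orb_comb b σ d h, sub_self]

theorem sub_mem_ann (h : IsDatum b T σ d) (z : T ⊗[A] B) : z - comb b T (orb σ d z) ∈ ann σ d := by
  show orb σ d _ = 0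
  rw [map_sub, orb_comb b σ d h, sub_self]

theorem eq_of_ann_eq {σ' : B →ₐ[A] Matrix (Fin n) (Fin n) T} {d' : Fin n → T} (h : IsDatum b T σ d)
    (h' : IsDatum b T σ' d') (e : ann σ d = ann σ' d') : σ = σ' ∧ d = d' := by
  have key : ∀ z, orb σ d z = orb σ' d' z := fun z => by
    have hz : z - comb b T (orb σ d z) ∈ ann σ' d' := e ▸ sub_mem_ann b σ d h z
    have := (show orb σ' d' _ = 0 from hz)
    rw [map_sub, orb_comb b σ' d' h', sub_eq_zero] at this
    exact this.symm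
  refine ⟨AlgHom.ext fun y => Matrix.ext fun i j => ?_, ?_⟩
  · have e2 := congrFun (key ((1 ⊗ₜ y) * (1 ⊗ₜ b j))) i
    simp only [orb_apply, map_mul, act_tmul, one_smul, ← Matrix.mulVec_mulVec, h j, h' j,
      Matrix.mulVec_single_one] at e2
    exact e2
  · have e2 := key 1
    simpa [orb_apply] using e2

theorem act_natural {T' : Type u} [CommRing T'] [Algebra A T'] (ψ : T →ₐ[A] T') (z : T ⊗[A] B) :
    act (ψ.mapMatrix.comp σ) (mapT ψ z) = (act σ z).map ψ := by
  induction z using TensorProduct.induction_on with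
  | zero => simp [Matrix.map_zero]
  | tmul r y =>
    rw [Algebra.TensorProduct.map_tmul, AlgHom.id_apply, act_tmul, act_tmul]
    ext i j
    simp
  | add z w hz hw => rw [map_add, map_add, hz, hw, map_add, Matrix.map_add _ (map_add ψ)]

theorem orb_natural {T' : Type u} [CommRing T'] [Algebra A T'] (ψ : T →ₐ[A] T') (z : T ⊗[A] B) :
    orb (ψ.mapMatrix.comp σ) (ψ ∘ d) (mapT ψ z) = ψ ∘ orb σ d z := by
  funext i
  rw [orb_apply, act_natural]
  exact (RingHom.map_mulVec ψ.toRingHom _ _ i).symm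

theorem isDatum_map {T' : Type u} [CommRing T'] [Algebra A T'] (ψ : T →ₐ[A] T') (h : IsDatum b T σ d) :
    IsDatum b T' (ψ.mapMatrix.comp σ) (ψ ∘ d) := fun j => by
  funext i
  have e := congrArg ψ (congrFun (h j) i)
  refine ((RingHom.map_mulVec ψ.toRingHom (σ (b j)) d i).symm.trans e).trans ?_
  by_cases hij : i = j
  · subst hij; simp
  · simp [hij]

theorem map_ann {T' : Type u} [CommRing T'] [Algebra A T'] (ψ : T →ₐ[A] T') (h : IsDatum b T σ d) :
    (ann σ d).map (mapT ψ) = ann (ψ.mapMatrix.comp σ) (ψ ∘ d) := by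
  have hb' := isBasisQuot_ann b _ _ (isDatum_map b σ d ψ h)
  have hle : (ann σ d).map (mapT ψ) ≤ ann (ψ.mapMatrix.comp σ) (ψ ∘ d) := Ideal.map_le_iff_le_comap.2 fun z hz => by
    show orb _ _ (mapT ψ z) = 0
    rw [orb_natural, show orb σ d z = 0 from hz]
    funext i; simp
  refine hb'.eq_of_le b ⟨fun z => ?_, fun v hv => hb'.2 v (hle hv)⟩ hle
  induction z using TensorProduct.induction_on with
  | zero => exact ⟨0, by simp⟩
  | tmul t y =>
    refine ⟨t • (ψ ∘ orb σ d (1 ⊗ₜ y)), ?_⟩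
    have h := Ideal.mul_mem_left _ (t ⊗ₜ[A] (1 : B)) (Ideal.mem_map_of_mem (mapT ψ) (sub_mem_ann b σ d h (1 ⊗ₜ y)))
    rw [map_sub, mapT_comb, mul_sub, Algebra.TensorProduct.map_tmul, map_one, AlgHom.id_apply,
      Algebra.TensorProduct.tmul_mul_tmul, mul_one, one_mul] at h
    rw [map_smul, Algebra.smul_def]
    exact h
  | add z w hz hw =>
    obtain ⟨v, hv⟩ := hz
    obtain ⟨v', hv'⟩ := hw
    exact ⟨v + v', by rw [map_add, add_sub_add_comm]; exact add_mem hv hv'⟩

end datum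

theorem exists_datum_of_isBasisQuot {T : Type u} [CommRing T] [Algebra A T] {K : Ideal (T ⊗[A] B)}
    (hK : IsBasisQuot b T K) :
    ∃ (σ : B →ₐ[A] Matrix (Fin n) (Fin n) T) (d : Fin n → T), IsDatum b T σ d ∧ ann σ d = K := by
  let e : (Fin n → T) →ₗ[T] (T ⊗[A] B) ⧸ K := (Ideal.Quotient.mkₐ T K).toLinearMap.comp (comb b T)
  have he : Function.Bijective e := by
    refine ⟨(injective_iff_map_eq_zero _).2 fun v hv => hK.2 v (Ideal.Quotient.eq_zero_iff_mem.1 hv), fun z => ?_⟩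
    obtain ⟨z, rfl⟩ := Ideal.Quotient.mk_surjective z
    obtain ⟨v, hv⟩ := hK.1 z
    exact ⟨v, (Ideal.Quotient.eq.2 hv).symm⟩
  let bas : Module.Basis (Fin n) T ((T ⊗[A] B) ⧸ K) := Module.Basis.ofEquivFun (LinearEquiv.ofBijective e he).symm
  let M : T ⊗[A] B →ₐ[T] Matrix (Fin n) (Fin n) T := (Algebra.leftMulMatrix bas).comp (Ideal.Quotient.mkₐ T K)
  let σ : B →ₐ[A] Matrix (Fin n) (Fin n) T := (M.restrictScalars A).comp Algebra.TensorProduct.includeRight
  let d : Fin n → T := bas.repr 1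
  have hact : ∀ z, act σ z = M z := fun z => by
    induction z using TensorProduct.induction_on with
    | zero => simp
    | tmul r y =>
      rw [act_tmul, show r ⊗ₜ[A] y = r • ((1 : T) ⊗ₜ[A] y) by rw [TensorProduct.smul_tmul', smul_eq_mul, mul_one],
        map_smul]
      rfl
    | add z w hz hw => rw [map_add, map_add, hz, hw]
  have hrepr : ∀ z, orb σ d z = bas.equivFun (Ideal.Quotient.mk K z) := fun z => by
    rw [orb_apply, hact]
    show Algebra.leftMulMatrix bas (Ideal.Quotient.mk K z) *ᵥ bas.repr 1 = _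
    rw [Algebra.leftMulMatrix_mulVec_repr, mul_one]
    rfl
  refine ⟨σ, d, fun j => ?_, Ideal.ext fun z => ?_⟩
  · have h := hrepr ((1 : T) ⊗ₜ b j)
    rw [orb_apply, act_tmul, one_smul] at h
    rw [h, Module.Basis.equivFun_ofEquivFun, show Ideal.Quotient.mk K ((1 : T) ⊗ₜ[A] b j) = e (Pi.single j 1) by
      simp [e, comb, Pi.single_apply, ite_smul]]
    exact (LinearEquiv.ofBijective e he).symm_apply_apply _
  · show orb σ d z = 0 ↔ _
    rw [hrepr, LinearEquiv.map_eq_zero_iff, Ideal.Quotient.eq_zero_iff_mem]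

variable [Algebra.FinitePresentation A B]

set_option maxHeartbeats 1000000 in
variable (A) in
/-- The universal datum. -/
theorem exists_universal_datum :
    ∃ (P : Type u) (_ : CommRing P) (_ : Algebra A P) (_ : Algebra.FinitePresentation A P)
      (σ : B →ₐ[A] Matrix (Fin n) (Fin n) P) (d : Fin n → P), IsDatum b P σ d ∧
      ∀ (T : Type u) [CommRing T] [Algebra A T] (σT : B →ₐ[A] Matrix (Fin n) (Fin n) T) (dT : Fin n → T),
        IsDatum b T σT dT → ∃! ψ : P →ₐ[A] T, ψ.mapMatrix.comp σ = σT ∧ ψ ∘ d = dT := by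
  classical
  obtain ⟨m, π, hπ, F, hF⟩ := (Algebra.FinitePresentation.out (R := A) (A := B))
  choose bl hbl using fun j => hπ (b j)
  let κ := (Fin m × Fin n × Fin n) ⊕ Fin n
  let P₀ := MvPolynomial κ A
  let X₀ : Fin m → Matrix (Fin n) (Fin n) P₀ := fun k => Matrix.of fun i j => MvPolynomial.X (Sum.inl (k, i, j))
  let I₁ : Ideal P₀ := Ideal.span (Set.range fun p : (Fin m × Fin m) × Fin n × Fin n =>
    (X₀ p.1.1 * X₀ p.1.2 - X₀ p.1.2 * X₀ p.1.1) p.2.1 p.2.2)
  let P₁ := P₀ ⧸ I₁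
  haveI : Algebra.FinitePresentation A P₁ := Algebra.FinitePresentation.quotient (Submodule.fg_span (Set.finite_range _))
  let q₁ : P₀ →ₐ[A] P₁ := Ideal.Quotient.mkₐ A I₁
  let X₁ : Fin m → Matrix (Fin n) (Fin n) P₁ := fun k => (X₀ k).map q₁
  have hX₁ : ∀ k l, X₁ k * X₁ l = X₁ l * X₁ k := fun k l => by
    ext i j
    rw [← Matrix.map_mul (f := q₁), ← Matrix.map_mul (f := q₁), Matrix.map_apply, Matrix.map_apply, ← sub_eq_zero,
      ← map_sub]
    exact Ideal.Quotient.eq_zero_iff_mem.2 (Ideal.subset_span ⟨((k, l), i, j), by simp⟩)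
  obtain ⟨φ₁, hφ₁⟩ := exists_eval (A := A) X₁ hX₁
  let d₁ : Fin n → P₁ := fun i => q₁ (MvPolynomial.X (Sum.inr i))
  let rels : (F × Fin n × Fin n) ⊕ (Fin n × Fin n) → P₁ :=
    Sum.elim (fun p => φ₁ p.1.1 p.2.1 p.2.2) fun p => (φ₁ (bl p.1) *ᵥ d₁) p.2 - (Pi.single p.1 1 : Fin n → P₁) p.2
  let I₂ : Ideal P₁ := Ideal.span (Set.range rels)
  let P := P₁ ⧸ I₂
  haveI : Algebra.FinitePresentation A P := Algebra.FinitePresentation.quotient (Submodule.fg_span (Set.finite_range _))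
  let q₂ : P₁ →ₐ[A] P := Ideal.Quotient.mkₐ A I₂
  let φP : MvPolynomial (Fin m) A →ₐ[A] Matrix (Fin n) (Fin n) P := q₂.mapMatrix.comp φ₁
  have hker : ∀ p ∈ RingHom.ker π.toRingHom, φP p = 0 := by
    intro p hp
    rw [← hF] at hp
    induction hp using Submodule.span_induction with
    | mem x hx =>
      ext i j
      exact Ideal.Quotient.eq_zero_iff_mem.2 (Ideal.subset_span ⟨Sum.inl (⟨x, hx⟩, i, j), rfl⟩)
    | zero => exact map_zero _
    | add x y _ _ hx hy => rw [map_add, hx, hy, add_zero]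
    | smul c x _ hx => rw [smul_eq_mul, map_mul, hx]; exact mul_zero (M₀ := Matrix (Fin n) (Fin n) P) _
  let σ : B →ₐ[A] Matrix (Fin n) (Fin n) P := (Ideal.Quotient.liftₐ _ φP hker).comp
    (Ideal.quotientKerAlgEquivOfSurjective hπ).symm.toAlgHom
  have hσ : ∀ p, σ (π p) = φP p := fun p => by
    show Ideal.Quotient.liftₐ _ φP hker ((Ideal.quotientKerAlgEquivOfSurjective hπ).symm (π p)) = _
    rw [show (Ideal.quotientKerAlgEquivOfSurjective hπ).symm (π p) = Ideal.Quotient.mk _ p from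
      (Ideal.quotientKerAlgEquivOfSurjective hπ).symm_apply_eq.2 rfl]
    rfl
  let d : Fin n → P := fun i => q₂ (d₁ i)
  have hdat : IsDatum b P σ d := fun j => by
    funext i
    have h0 : q₂ ((φ₁ (bl j) *ᵥ d₁) i - (Pi.single j 1 : Fin n → P₁) i) = 0 :=
      Ideal.Quotient.eq_zero_iff_mem.2 (Ideal.subset_span ⟨Sum.inr (j, i), rfl⟩)
    rw [map_sub, sub_eq_zero] at h0
    have h1 : (φP (bl j) *ᵥ d) i = q₂ ((φ₁ (bl j) *ᵥ d₁) i) :=
      (RingHom.map_mulVec q₂.toRingHom (φ₁ (bl j)) d₁ i).symm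
    rw [← hbl, hσ, h1, h0]
    by_cases h : i = j
    · subst h; simp
    · simp [h]
  refine ⟨P, inferInstance, inferInstance, inferInstance, σ, d, hdat, fun T _ _ σT dT hT => ?_⟩
  let φT : MvPolynomial (Fin m) A →ₐ[A] Matrix (Fin n) (Fin n) T := σT.comp π
  let val : κ → T := Sum.elim (fun p => φT (MvPolynomial.X p.1) p.2.1 p.2.2) dT
  let ψ₀ : P₀ →ₐ[A] T := MvPolynomial.aeval val
  have hψ₀X : ∀ v, ψ₀ (MvPolynomial.X v) = val v := fun v => MvPolynomial.aeval_X val v
  have hX₀ : ∀ k, (X₀ k).map ψ₀ = φT (MvPolynomial.X k) := fun k => by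
    ext i j; exact hψ₀X (Sum.inl (k, i, j))
  have hI₁ : ∀ x ∈ I₁, ψ₀ x = 0 := fun x hx => by
    induction hx using Submodule.span_induction with
    | mem x hx =>
      obtain ⟨⟨⟨k, l⟩, i, j⟩, rfl⟩ := hx
      have : (X₀ k * X₀ l - X₀ l * X₀ k).map ψ₀ = 0 := by
        rw [Matrix.map_sub _ (map_sub ψ₀), Matrix.map_mul, Matrix.map_mul, hX₀, hX₀, ← map_mul, ← map_mul,
          mul_comm, sub_self]
      exact congrFun (congrFun this i) j
    | zero => exact map_zero _
    | add x y _ _ hx hy => rw [map_add, hx, hy, add_zero]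
    | smul c x _ hx => rw [smul_eq_mul, map_mul, hx, mul_zero]
  let ψ₁ : P₁ →ₐ[A] T := Ideal.Quotient.liftₐ I₁ ψ₀ hI₁
  have hφ₁T : ψ₁.mapMatrix.comp φ₁ = φT := MvPolynomial.algHom_ext fun k => by
    show (φ₁ (MvPolynomial.X k)).map ψ₁ = _
    rw [hφ₁, ← hX₀]
    ext i j; rfl
  have hd₁ : ∀ i, ψ₁ (d₁ i) = dT i := fun i => by
    exact hψ₀X (Sum.inr i)
  have hI₂ : ∀ x ∈ I₂, ψ₁ x = 0 := fun x hx => by
    induction hx using Submodule.span_induction with
    | mem x hx =>
      obtain ⟨p | ⟨j, i⟩, rfl⟩ := hx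
      · have h0 : φT p.1.1 = 0 := by
          show σT (π p.1.1) = 0
          rw [show π p.1.1 = 0 from RingHom.mem_ker.1 (hF.le (Ideal.subset_span p.1.2)), map_zero]
        have h1 : (φ₁ p.1.1).map ψ₁ = φT p.1.1 := AlgHom.congr_fun hφ₁T p.1.1
        exact (congrFun (congrFun h1 p.2.1) p.2.2).trans (congrFun (congrFun h0 p.2.1) p.2.2)
      · show ψ₁ ((φ₁ (bl j) *ᵥ d₁) i - (Pi.single j 1 : Fin n → P₁) i) = 0
        have h1 : ψ₁ ((φ₁ (bl j) *ᵥ d₁) i) = (σT (b j) *ᵥ dT) i := by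
          refine (RingHom.map_mulVec ψ₁.toRingHom _ _ i).trans ?_
          rw [show (φ₁ (bl j)).map ψ₁.toRingHom = φT (bl j) from AlgHom.congr_fun hφ₁T _,
            show ψ₁.toRingHom ∘ d₁ = dT from funext hd₁, ← hbl j]
          rfl
        rw [map_sub, h1, hT j, sub_eq_zero]
        by_cases h : i = j
        · subst h; simp
        · simp [h]
    | zero => exact map_zero _
    | add x y _ _ hx hy => rw [map_add, hx, hy, add_zero]
    | smul c x _ hx => rw [smul_eq_mul, map_mul, hx, mul_zero]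
  refine ⟨Ideal.Quotient.liftₐ I₂ ψ₁ hI₂, ⟨?_, funext hd₁⟩, fun ψ' ⟨h1, h2⟩ => ?_⟩
  · refine AlgHom.ext fun y => ?_
    obtain ⟨p, rfl⟩ := hπ y
    rw [AlgHom.comp_apply, hσ]
    show ((φ₁ p).map q₂).map _ = _
    rw [Matrix.map_map]
    exact AlgHom.congr_fun hφ₁T p
  · refine Ideal.Quotient.algHom_ext A (Ideal.Quotient.algHom_ext A (MvPolynomial.algHom_ext fun v => ?_))
    rcases v with ⟨k, i, j⟩ | i
    · have e := congrFun (congrFun (AlgHom.congr_fun h1 (π (MvPolynomial.X k))) i) j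
      rw [AlgHom.comp_apply, hσ] at e
      change ψ' (q₂ (q₁ _)) = ψ₀ _
      refine Eq.trans (Eq.trans ?_ e) (hψ₀X (Sum.inl (k, i, j))).symm
      show _ = ψ' (q₂ (φ₁ (MvPolynomial.X k) i j))
      rw [hφ₁]
      rfl
    · change ψ' (q₂ (q₁ _)) = ψ₀ _
      exact (congrFun h2 i).trans (hψ₀X (Sum.inr i)).symm

variable (A) in
/-- **The chart**: a finitely presented algebra parametrising quotients with the given basis. -/
theorem exists_chart :
    ∃ (P : Type u) (_ : CommRing P) (_ : Algebra A P) (_ : Algebra.FinitePresentation A P)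
      (J : Ideal (P ⊗[A] B)), J.FG ∧ IsBasisQuot b P J ∧
      (∀ (T : Type u) [CommRing T] [Algebra A T] (ψ : P →ₐ[A] T), IsBasisQuot b T (J.map (mapT ψ))) ∧
      ∀ (T : Type u) [CommRing T] [Algebra A T] (K : Ideal (T ⊗[A] B)), IsBasisQuot b T K →
        ∃! ψ : P →ₐ[A] T, J.map (mapT ψ) = K := by
  obtain ⟨P, _, _, _, σ, d, hd, huniv⟩ := exists_universal_datum A b
  refine ⟨P, inferInstance, inferInstance, inferInstance, ann σ d, ?_, isBasisQuot_ann b σ d hd,
    fun T _ _ ψ => (map_ann b σ d ψ hd).symm ▸ isBasisQuot_ann b _ _ (isDatum_map b σ d ψ hd), fun T _ _ K hK => ?_⟩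
  · have hJb := isBasisQuot_ann b σ d hd
    let e : (Fin n → P) →ₗ[P] (P ⊗[A] B) ⧸ ann σ d := (Ideal.Quotient.mkₐ P (ann σ d)).toLinearMap.comp (comb b P)
    have he : Function.Bijective e := by
      refine ⟨(injective_iff_map_eq_zero _).2 fun v hv => hJb.2 v (Ideal.Quotient.eq_zero_iff_mem.1 hv), fun z => ?_⟩
      obtain ⟨z, rfl⟩ := Ideal.Quotient.mk_surjective z
      obtain ⟨v, hv⟩ := hJb.1 z
      exact ⟨v, (Ideal.Quotient.eq.2 hv).symm⟩
    haveI : Module.Finite P ((P ⊗[A] B) ⧸ ann σ d) := Module.Finite.equiv (LinearEquiv.ofBijective e he)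
    haveI : Module.FinitePresentation P ((P ⊗[A] B) ⧸ ann σ d) :=
      Module.FinitePresentation.of_equiv (LinearEquiv.ofBijective e he)
    haveI : Algebra.FinitePresentation P (P ⊗[A] B) := Algebra.FinitePresentation.baseChange P
    have := Algebra.FinitePresentation.ker_fG_of_surjective (Ideal.Quotient.mkₐ P (ann σ d)) Ideal.Quotient.mk_surjective
    rwa [show RingHom.ker (Ideal.Quotient.mkₐ P (ann σ d)).toRingHom = ann σ d from Ideal.mk_ker] at this
  · obtain ⟨σT, dT, hT, rfl⟩ := exists_datum_of_isBasisQuot b hK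
    obtain ⟨ψ, ⟨h1, h2⟩, hu⟩ := huniv T σT dT hT
    refine ⟨ψ, ?_, fun ψ' hψ' => hu ψ' ?_⟩
    · dsimp only
      rw [map_ann b σ d ψ hd, h1, h2]
    · exact eq_of_ann_eq b _ _ (isDatum_map b σ d ψ' hd) hT ((map_ann b σ d ψ' hd).symm.trans hψ')

end Groth.Agent.Stk19b.GrpdSplit
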