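import Groth.Agent.Stk19b.GrpdSplit.Translate
import Mathlib.RingTheory.RingHom.Etale
import Mathlib.RingTheory.Localization.Away.Basic

/-!
# The split groupoid in an etale neighbourhood, on rings
-/

set_option autoImplicit false
set_option backward.isDefEq.respectTransparency false

universe u

noncomputable section

open CategoryTheory AlgebraicGeometry TensorProduct

namespace Groth.Agent.Stk19b.GrpdSplit

open Groth.Agent.GrpdLib (liftRing liftRing_tmul)

variable {S : Scheme.{u}} {G : Grpd.GroupoidScheme S} {A B : Type u} [CommRing A] [CommRing B] [Algebra A B]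
  {c : Arr G A B} {n : ℕ} {b : Fin n → B} {κ : Type u} [Field κ] [Algebra A κ]
  {P : Type u} [CommRing P] [Algebra A P] {J : Ideal (P ⊗[A] B)} {ψ₀ : P →ₐ[A] κ}

theorem comp_ker_eq {L : Type u} [Field L] (ι : κ →+* L) (ψ : P →+* κ) :
    RingHom.ker (ι.comp ψ) = RingHom.ker ψ := by
  rw [← RingHom.comap_ker, (RingHom.injective_iff_ker_eq_bot _).1 ι.injective, ← RingHom.ker_eq_comap_bot]

/-- A map to a field with the kernel of the point is determined on the base. -/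
theorem hom_eq_of_ker (hκ : ∀ x : κ, ∃ a s : A, IsUnit (algebraMap A κ s) ∧ x * algebraMap A κ s = algebraMap A κ a)
    {L : Type u} [Field L] (f g : P →+* L) (hf : RingHom.ker f = RingHom.ker ψ₀.toRingHom)
    (hg : RingHom.ker g = RingHom.ker ψ₀.toRingHom)
    (h : f.comp (algebraMap A P) = g.comp (algebraMap A P)) : f = g := by
  refine RingHom.ext fun x => ?_
  obtain ⟨a, s, hs, e⟩ := hκ (ψ₀ x)
  have hm : x * algebraMap A P s - algebraMap A P a ∈ RingHom.ker ψ₀.toRingHom := by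
    show ψ₀ _ = 0
    rw [map_sub, map_mul, AlgHom.commutes, AlgHom.commutes, e, sub_self]
  have e1 : f x * f (algebraMap A P s) = f (algebraMap A P a) := by
    rw [← map_mul, ← sub_eq_zero, ← map_sub]; exact RingHom.mem_ker.1 (hf.symm ▸ hm)
  have e2 : g x * g (algebraMap A P s) = g (algebraMap A P a) := by
    rw [← map_mul, ← sub_eq_zero, ← map_sub]; exact RingHom.mem_ker.1 (hg.symm ▸ hm)
  have hne : f (algebraMap A P s) ≠ 0 := fun h0 => by
    have h1 : algebraMap A P s ∈ RingHom.ker ψ₀.toRingHom := hf ▸ RingHom.mem_ker.2 h0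
    exact hs.ne_zero ((ψ₀.commutes s).symm.trans h1)
  have ha : f (algebraMap A P a) = g (algebraMap A P a) := RingHom.congr_fun h a
  have hs' : f (algebraMap A P s) = g (algebraMap A P s) := RingHom.congr_fun h s
  refine mul_right_cancel₀ hne ?_
  rw [e1, ha, ← e2, hs']

/-- A point of the chart over the point lies in the piece. -/
theorem inZ_of_ker (hC : Closed c κ) (hJ₀ : J.map (mapT ψ₀) = ⊥) {L : Type u} [Field L] {h : P →+* L} {a : B →+* L}
    (hk : RingHom.ker h = RingHom.ker ψ₀.toRingHom) (hc : a.comp (algebraMap A B) = h.comp (algebraMap A P)) :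
    InZ J h a := by
  letI : Algebra A L := (h.comp (algebraMap A P)).toAlgebra
  obtain ⟨ι⟩ := hC.hι L (ker_comp_algebraMap ψ₀ hk)
  have he : ι.toRingHom.comp ψ₀.toRingHom = h :=
    hom_eq_of_ker hC.hκ _ _ (comp_ker_eq _ _) hk (by
      rw [RingHom.comp_assoc, show ψ₀.toRingHom.comp (algebraMap A P) = algebraMap A κ from ψ₀.comp_algebraMap]
      exact ι.comp_algebraMap)
  let aA : B →ₐ[A] L := { a with commutes' := fun r => RingHom.congr_fun hc r }
  let μ : κ ⊗[A] B →ₐ[A] L := Algebra.TensorProduct.lift ι aA fun _ _ => .all ..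
  refine (inZ_iff J hc).2 fun z hz => ?_
  have hμ : ∀ w, liftRing h a hc w = μ (mapT ψ₀ w) := fun w => by
    induction w using TensorProduct.induction_on with
    | zero => simp only [map_zero]
    | tmul x y =>
      rw [liftRing_tmul, Algebra.TensorProduct.map_tmul, AlgHom.id_apply, Algebra.TensorProduct.lift_tmul]
      congr 1
      exact (RingHom.congr_fun he x).symm
    | add z w hz hw => simp only [map_add, hz, hw]
  have h0 := Ideal.mem_map_of_mem (mapT ψ₀) hz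
  rw [hJ₀, Submodule.mem_bot] at h0
  rw [RingHom.mem_ker, hμ, h0, map_zero]

theorem etale_mk_of_idempotent {R : Type u} [CommRing R] (I : Ideal R) (hI : IsIdempotentElem I) (hfg : I.FG) :
    (Ideal.Quotient.mk I).Etale := by
  obtain ⟨e, he, rfl⟩ := (Ideal.isIdempotentElem_iff_of_fg I hfg).1 hI
  letI : Algebra R (R ⧸ Ideal.span {e}) := Ideal.Quotient.algebra R
  haveI : IsLocalization.Away (1 - e) (R ⧸ Ideal.span {e}) := by
    have := IsLocalization.Away.quotient_of_isIdempotentElem he.one_sub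
    rwa [sub_sub_cancel] at this
  rw [show Ideal.Quotient.mk (Ideal.span {e}) = algebraMap R (R ⧸ Ideal.span {e}) from rfl, RingHom.etale_algebraMap]
  exact Algebra.Etale.of_isLocalizationAway (1 - e)

theorem etale_jB [Algebra.Etale A P] (hJid : IsIdempotentElem J) (hJfg : J.FG) : (jB J).Etale := by
  refine RingHom.Etale.stableUnderComposition _ _ ?_ (etale_mk_of_idempotent J hJid hJfg)
  have h1 : (algebraMap B (B ⊗[A] P)).Etale := RingHom.etale_algebraMap.2 inferInstance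
  have e : (Algebra.TensorProduct.includeRight : B →ₐ[A] P ⊗[A] B).toRingHom =
      (Algebra.TensorProduct.comm A B P).toRingEquiv.toRingHom.comp (algebraMap B (B ⊗[A] P)) :=
    RingHom.ext fun x => rfl
  rw [e]
  exact RingHom.Etale.respectsIso.1 _ _ h1

/-- The elements cutting out the invariant neighbourhood. -/
theorem exists_good (hC : Closed c κ) (hb : Function.Surjective (comb (A := A) b κ)) (hJ : IsBasisQuot b P J)
    (hJid : IsIdempotentElem J) (hJfg : J.FG) (hJ₀ : J.map (mapT ψ₀) = ⊥)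
    (hinj : ∀ (T : Type u) [CommRing T] [Algebra A T] (ψ₁ ψ₂ : P →ₐ[A] T),
      J.map (mapT ψ₁) = J.map (mapT ψ₂) → ψ₁ = ψ₂)
    (hcl : ∀ (T : Type u) [CommRing T] [Algebra A T] (K : Ideal (T ⊗[A] B)), IsBasisQuot b T K → ∃ γ : T,
        (∀ (T' : Type u) [CommRing T'] [Algebra A T'] (χ : T →ₐ[A] T'), IsUnit (χ γ) →
          ∃ ψ : P →ₐ[A] T', J.map (mapT ψ) = K.map (mapT χ)) ∧
        ∀ (L : Type u) [CommRing L] [Algebra A L] [IsDomain L] (χ : T →ₐ[A] L) (_ι : κ →ₐ[A] L),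
          K.map (mapT χ) = ⊥ → χ γ ≠ 0) :
    ∃ gW : P, ψ₀ gW ≠ 0 ∧ ∀ (D : Type u) [CommRing D] (h : P →+* D), IsUnit (h gW) →
      (∃ qe : Piece J →+* D, hq J qe = h ∧ c.IsId (h.comp (algebraMap A P)) (aq J qe)) ∧
      (∀ q₁ q₂ : Piece J →+* D, hq J q₁ = h → hq J q₂ = h → ∃ y, c.Rel y (aq J q₁) (aq J q₂)) ∧
      ∀ q : Piece J →+* D, hq J q = h → ∃ h₂, Tr c J q h₂ ∧ IsUnit (h₂ gW) ∧
        ∀ (L : Type u) [Field L] (χ : D →+* L), RingHom.ker (χ.comp h) = RingHom.ker ψ₀.toRingHom →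
          RingHom.ker (χ.comp h₂) = RingHom.ker ψ₀.toRingHom := by
  classical
  obtain ⟨ge, hge, hunit⟩ := exists_unit_nbhd ψ₀ hC hJid hJfg hJ₀
  obtain ⟨gd, hgd, hdiv⟩ := exists_div_nbhd b ψ₀ hC hJ
  let g₀ := ge * gd
  obtain ⟨bas, -⟩ := exists_basis b J hJ
  let T₀ := Localization.Away (algebraMap P (Piece J) g₀)
  let loc₀ : Piece J →+* T₀ := algebraMap (Piece J) T₀
  obtain ⟨γT, hγ, hγL⟩ := exists_translate_aux (T := Twist T₀ ((aq J loc₀).comp c.tB)) b ψ₀ hC hJ hJ₀ hb hinj hcl g₀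
    (fun D _ q₁ q₂ h hu => hdiv D q₁ q₂ h (IsUnit.mul_iff.1 (map_mul (hq J q₁) ge gd ▸ hu)).2) loc₀
    (IsLocalization.Away.algebraMap_isUnit (S := T₀) (algebraMap P (Piece J) g₀)) rfl
  obtain ⟨⟨a, ⟨d, k, rfl⟩⟩, hak⟩ := IsLocalization.surj (S := T₀) (Submonoid.powers (algebraMap P (Piece J) g₀)) γT
  let γ : Piece J := algebraMap P (Piece J) g₀ * a
  have hE : ∀ (D : Type u) [CommRing D] (q : Piece J →+* D), IsUnit (q γ) →
      IsUnit (hq J q g₀) ∧ ∃ h₂, Tr c J q h₂ := by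
    intro D _ q hu
    rw [map_mul, IsUnit.mul_iff] at hu
    let χ : T₀ →+* D := IsLocalization.Away.lift (algebraMap P (Piece J) g₀) hu.1
    have hχ : χ.comp loc₀ = q := IsLocalization.Away.lift_comp _ hu.1
    refine ⟨hu.1, ?_⟩
    obtain ⟨h₂, H⟩ := hγ D χ (by
      have := congrArg χ hak
      rw [map_mul] at this
      refine isUnit_of_mul_isUnit_left (y := χ (algebraMap (Piece J) T₀ ((algebraMap P (Piece J) g₀) ^ k))) ?_
      refine this ▸ ?_
      rw [show χ (algebraMap (Piece J) T₀ a) = q a from RingHom.congr_fun hχ a]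
      exact hu.2)
    exact ⟨h₂, hχ ▸ H⟩
  have hP : ∀ (L : Type u) [Field L] (q : Piece J →+* L), RingHom.ker (hq J q) = RingHom.ker ψ₀.toRingHom →
      q γ ≠ 0 ∧ ∀ h₂, Tr c J q h₂ → RingHom.ker h₂ = RingHom.ker ψ₀.toRingHom := by
    intro L _ q hk
    have hg₀ : hq J q g₀ ≠ 0 := fun h0 => by
      have h1 : g₀ ∈ RingHom.ker ψ₀.toRingHom := hk ▸ RingHom.mem_ker.2 h0
      exact mul_ne_zero hge hgd ((map_mul ψ₀ ge gd).symm.trans h1)
    let χ : T₀ →+* L := IsLocalization.Away.lift (algebraMap P (Piece J) g₀) (isUnit_iff_ne_zero.2 hg₀)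
    have hχ : χ.comp loc₀ = q := IsLocalization.Away.lift_comp _ _
    obtain ⟨h1, h2⟩ := hγL L χ (by rw [show hq J (χ.comp loc₀) = hq J q by rw [hχ]]; exact hk)
    refine ⟨?_, fun h₂ H => h2 h₂ (hχ.symm ▸ H)⟩
    rw [map_mul]
    refine mul_ne_zero hg₀ fun ha => h1 ?_
    have := congrArg χ hak
    rw [map_mul, show χ (algebraMap (Piece J) T₀ a) = q a from RingHom.congr_fun hχ a, ha] at this
    refine (mul_eq_zero.1 this).resolve_right ?_
    rw [show χ (algebraMap (Piece J) T₀ ((algebraMap P (Piece J) g₀) ^ k)) = q ((algebraMap P (Piece J) g₀) ^ k) from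
      RingHom.congr_fun hχ _, map_pow]
    exact pow_ne_zero _ hg₀
  let g₁ := g₀ * nrm bas γ
  have hG : ∀ (D : Type u) [CommRing D] (h : P →+* D), IsUnit (h g₁) → IsUnit (h g₀) ∧
      ∀ (D' : Type u) [CommRing D'] (χ : D →+* D') (q : Piece J →+* D'), hq J q = χ.comp h → IsUnit (q γ) := by
    intro D _ h hu
    rw [map_mul, IsUnit.mul_iff] at hu
    exact ⟨hu.1, fun D' _ χ q hq => isUnit_of_isUnit_nrm hu.2 hq⟩
  let T₁ := Localization.Away γ
  let loc₁ : Piece J →+* T₁ := algebraMap (Piece J) T₁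
  obtain ⟨-, h₂u, Hu⟩ := hE T₁ loc₁ (IsLocalization.Away.algebraMap_isUnit _)
  obtain ⟨⟨f, ⟨d, m, rfl⟩⟩, hfm⟩ := IsLocalization.surj (S := T₁) (Submonoid.powers γ) (h₂u g₁)
  have hF : ∀ (D : Type u) [CommRing D] (q : Piece J →+* D) (h₂ : P →+* D), IsUnit (q γ) → Tr c J q h₂ →
      h₂ g₁ * q γ ^ m = q f := by
    intro D _ q h₂ hu H
    let χ : T₁ →+* D := IsLocalization.Away.lift γ hu
    have hχ : χ.comp loc₁ = q := IsLocalization.Away.lift_comp _ hu
    rw [H.unique hinj (hχ ▸ Hu.map χ)]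
    have := congrArg χ hfm
    rw [map_mul, show χ (algebraMap (Piece J) T₁ f) = q f from RingHom.congr_fun hχ f,
      show χ (algebraMap (Piece J) T₁ (γ ^ m)) = q (γ ^ m) from RingHom.congr_fun hχ _, map_pow] at this
    exact this
  have hg₁ : ψ₀ g₁ ≠ 0 := by
    rw [map_mul]
    exact mul_ne_zero ((map_mul ψ₀ ge gd).symm ▸ mul_ne_zero hge hgd)
      (nrm_ne_zero bas γ ψ₀.toRingHom fun L _ q hk => (hP L q hk).1)
  refine ⟨g₁ * nrm bas f, ?_, fun D _ h hu => ?_⟩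
  · rw [map_mul]
    refine mul_ne_zero hg₁ (nrm_ne_zero bas f ψ₀.toRingHom fun L _ q hk => ?_)
    obtain ⟨h1, h2⟩ := hP L q hk
    obtain ⟨-, h₂, H⟩ := hE L q (isUnit_iff_ne_zero.2 h1)
    rw [← hF L q h₂ (isUnit_iff_ne_zero.2 h1) H]
    exact mul_ne_zero (fun h0 => hg₁ (RingHom.mem_ker.1 (h2 h₂ H ▸ RingHom.mem_ker.2 h0))) (pow_ne_zero _ h1)
  · rw [map_mul, IsUnit.mul_iff] at hu
    obtain ⟨hu₀, hγu⟩ := hG D h hu.1
    have hu₀' := IsUnit.mul_iff.1 (map_mul h ge gd ▸ hu₀)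
    refine ⟨hunit D h hu₀'.1, fun q₁ q₂ e₁ e₂ => hdiv D q₁ q₂ (e₁.trans e₂.symm) (e₁.symm ▸ hu₀'.2), fun q hqh => ?_⟩
    obtain ⟨-, h₂, H⟩ := hE D q (hγu D (RingHom.id D) q hqh)
    have hu₂ : IsUnit (h₂ g₁) := isUnit_of_mul_isUnit_left (y := q γ ^ m)
      (by rw [hF D q h₂ (hγu D (RingHom.id D) q hqh) H]; exact isUnit_of_isUnit_nrm (χ := RingHom.id D) hu.2 hqh)
    refine ⟨h₂, H, ?_, fun L _ χ hk => (hP L (χ.comp q) (by rw [← hk, ← hqh]; rfl)).2 _ (H.map χ)⟩
    rw [map_mul]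
    refine hu₂.mul (isUnit_nrm_of_forall bas f h₂ fun D' _ χ q' hq' => ?_)
    obtain ⟨qb, hqb, hr⟩ := (H.2 D' χ (aq J q') (by
      rw [aq_alg, show hq J q' = χ.comp h₂ from hq', RingHom.comp_assoc, H.1]; rfl)).1 ⟨q', hq', rfl⟩
    have hqb' : hq J qb = χ.comp h := hqb.trans (congrArg χ.comp hqh)
    obtain ⟨-, h₃, H₃⟩ := hE D' qb (hγu D' χ qb hqb')
    have H₃' : Tr c J q' h₃ := Tr.comp (fun D'' _ θ q₁ q₂ e₁ e₂ => hdiv D'' q₁ q₂ (e₁.trans e₂.symm) (by
        rw [e₁, show hq J (χ.comp q) = χ.comp h from congrArg χ.comp hqh]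
        exact (hu₀'.2.map χ).map θ)) (H.map χ) hq' hqb hr H₃
    have hγ' : IsUnit (q' γ) := (hG D h₂ hu₂).2 D' χ q' hq'
    rw [← hF D' q' h₃ hγ' H₃']
    refine IsUnit.mul (isUnit_of_mul_isUnit_left (y := qb γ ^ m) ?_) (hγ'.pow m)
    rw [hF D' qb h₃ (hγu D' χ qb hqb') H₃]
    exact isUnit_of_isUnit_nrm hu.2 hqb'

end Groth.Agent.Stk19b.GrpdSplit
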