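import Groth.Agent.Stk19b.GrpdSplit.Etale
import Mathlib.RingTheory.Norm.Defs
import Mathlib.RingTheory.Ideal.GoingUp
import Mathlib.RingTheory.TensorProduct.Free
import Mathlib.LinearAlgebra.Matrix.NonsingularInverse

/-!
# Determinantal loci
-/

set_option autoImplicit false
set_option backward.isDefEq.respectTransparency false

universe u

noncomputable section

open TensorProduct Matrix

namespace Groth.Agent.Stk19b.GrpdSplit

theorem isUnit_of_forall_field {R : Type u} [CommRing R] {x : R}
    (H : ∀ (L : Type u) [Field L] (χ : R →+* L), χ x ≠ 0) : IsUnit x := by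
  by_contra h
  obtain ⟨m, hm, hxm⟩ := exists_max_ideal_of_mem_nonunits (mem_nonunits_iff.2 h)
  letI := Ideal.Quotient.field m
  exact H (R ⧸ m) (Ideal.Quotient.mk m) (Ideal.Quotient.eq_zero_iff_mem.2 hxm)

section norm

variable {P Q : Type u} [CommRing P] [CommRing Q] [Algebra P Q] {n : ℕ} (bas : Module.Basis (Fin n) P Q) (f : Q)

/-- The determinant of multiplication. -/
def nrm : P := (Algebra.leftMulMatrix bas f).det

variable {bas f}

theorem isUnit_of_isUnit_nrm {D : Type u} [CommRing D] {h : P →+* D} (hu : IsUnit (h (nrm bas f))) {D' : Type u}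
    [CommRing D'] {χ : D →+* D'} {q : Q →+* D'} (hq : q.comp (algebraMap P Q) = χ.comp h) : IsUnit (q f) := by
  classical
  let M := Algebra.leftMulMatrix bas f
  let w : Q := bas.equivFun.symm (M.adjugate *ᵥ bas.equivFun 1)
  have e : f * w = algebraMap P Q M.det := by
    refine bas.equivFun.injective ?_
    rw [Algebra.algebraMap_eq_smul_one, map_smul]
    show ⇑(bas.repr (f * w)) = M.det • bas.equivFun 1
    rw [← Algebra.leftMulMatrix_mulVec_repr bas f w]
    show M *ᵥ bas.equivFun w = _
    rw [show bas.equivFun w = M.adjugate *ᵥ bas.equivFun 1 from bas.equivFun.apply_symm_apply _,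
      Matrix.mulVec_mulVec, Matrix.mul_adjugate, Matrix.smul_mulVec, Matrix.one_mulVec]
  have h2 : q f * q w = χ (h (nrm bas f)) := by
    rw [← map_mul, e]; exact RingHom.congr_fun hq _
  exact isUnit_of_mul_isUnit_left (h2 ▸ hu.map χ)

variable (bas f) in
theorem isUnit_nrm_of_forall {D : Type u} [CommRing D] (h : P →+* D)
    (H : ∀ (D' : Type u) [CommRing D'] (χ : D →+* D') (q : Q →+* D'),
      q.comp (algebraMap P Q) = χ.comp h → IsUnit (q f)) : IsUnit (h (nrm bas f)) := by
  classical
  letI : Algebra P D := h.toAlgebra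
  let q : Q →+* D ⊗[P] Q := (Algebra.TensorProduct.includeRight : Q →ₐ[P] D ⊗[P] Q).toRingHom
  let χ : D →+* D ⊗[P] Q := (Algebra.TensorProduct.includeLeft : D →ₐ[D] D ⊗[P] Q).toRingHom
  have hu : IsUnit ((1 : D) ⊗ₜ[P] f) := H (D ⊗[P] Q) χ q (RingHom.ext fun x => by
    show (1 : D) ⊗ₜ[P] algebraMap P Q x = h x ⊗ₜ[P] (1 : Q)
    rw [Algebra.algebraMap_eq_smul_one, ← smul_tmul, Algebra.smul_def, mul_one]
    rfl)
  let bas' : Module.Basis (Fin n) D (D ⊗[P] Q) := Algebra.TensorProduct.basis D bas
  have e : Algebra.leftMulMatrix bas' ((1 : D) ⊗ₜ[P] f) = (Algebra.leftMulMatrix bas f).map h := by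
    ext i j
    rw [Matrix.map_apply, Algebra.leftMulMatrix_eq_repr_mul, Algebra.leftMulMatrix_eq_repr_mul]
    show bas'.repr (((1 : D) ⊗ₜ[P] f) * bas' j) i = _
    rw [Algebra.TensorProduct.basis_apply, Algebra.TensorProduct.tmul_mul_tmul, one_mul]
    simp [bas', RingHom.algebraMap_toAlgebra, Algebra.smul_def]
  rw [nrm, RingHom.map_det, RingHom.mapMatrix_apply, ← e, ← Matrix.isUnit_iff_isUnit_det]
  exact hu.map _

variable (bas f) in
theorem nrm_ne_zero {κ : Type u} [Field κ] (h : P →+* κ)
    (H : ∀ (L : Type u) [Field L] (q : Q →+* L), RingHom.ker (q.comp (algebraMap P Q)) = RingHom.ker h → q f ≠ 0) :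
    h (nrm bas f) ≠ 0 := by
  refine (isUnit_nrm_of_forall bas f h fun D' _ χ q hq => isUnit_of_forall_field fun L _ ρ => ?_).ne_zero
  refine H L (ρ.comp q) ?_
  rw [RingHom.comp_assoc, hq, ← RingHom.comp_assoc]
  rw [← RingHom.comap_ker, (RingHom.injective_iff_ker_eq_bot _).1 (ρ.comp χ).injective, ← RingHom.ker_eq_comap_bot]

end norm

/-- A basic neighbourhood of a point over which a closed set of a finite algebra is empty. -/
theorem exists_notMem_forall {P C : Type u} [CommRing P] [CommRing C] [Algebra P C] [Algebra.IsIntegral P C]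
    (p : Ideal P) [p.IsPrime] (I : Ideal C) (H : ∀ (L : Type u) [Field L] (r : C →+* L),
      RingHom.ker (r.comp (algebraMap P C)) = p → ¬ I ≤ RingHom.ker r) :
    ∃ g ∉ p, algebraMap P C g ∈ I := by
  by_contra hc
  push Not at hc
  have hle : I.comap (algebraMap P C) ≤ p := fun x hx => by
    by_contra hxp
    exact hc x hxp hx
  obtain ⟨Qp, hI, hQ, hQp⟩ := Ideal.exists_ideal_over_prime_of_isIntegral p I hle
  haveI := hQ
  refine H (FractionRing (C ⧸ Qp)) ((algebraMap (C ⧸ Qp) _).comp (Ideal.Quotient.mk Qp)) ?_ ?_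
  · rw [← hQp, RingHom.comp_assoc, ← RingHom.comap_ker,
      (RingHom.injective_iff_ker_eq_bot _).1 (IsFractionRing.injective (C ⧸ Qp) _), ← RingHom.ker_eq_comap_bot,
      ← RingHom.comap_ker, Ideal.mk_ker]
  · rw [← RingHom.comap_ker, (RingHom.injective_iff_ker_eq_bot _).1 (IsFractionRing.injective (C ⧸ Qp) _),
      ← RingHom.ker_eq_comap_bot, Ideal.mk_ker]
    exact hI

variable {A B : Type u} [CommRing A] [CommRing B] [Algebra A B] {n : ℕ} (b : Fin n → B)

/-- Where the given elements give a basis of a quotient which is free with some basis. -/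
theorem exists_det {T C : Type u} [CommRing T] [Algebra A T] [CommRing C] [Algebra T C]
    (bas : Module.Basis (Fin n) T C) (Φ : T ⊗[A] B →ₐ[T] C) (hΦ : Function.Surjective Φ) :
    ∃ δ : T,
      (∀ (T' : Type u) [CommRing T'] [Algebra A T'] (χ : T →ₐ[A] T'), IsUnit (χ δ) →
        IsBasisQuot b T' ((RingHom.ker Φ.toRingHom).map (mapT χ))) ∧
      ∀ (L : Type u) [Field L] [Algebra A L] (χ : T →ₐ[A] L), Function.Surjective (comb (A := A) b L) →
        χ δ ≠ 0 ∧ (RingHom.ker Φ.toRingHom).map (mapT χ) = ⊥ := by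
  classical
  let co : T ⊗[A] B →ₗ[T] (Fin n → T) := bas.equivFun.toLinearMap.comp Φ.toLinearMap
  have hco : Function.Surjective co := fun v => by
    obtain ⟨z, hz⟩ := hΦ (bas.equivFun.symm v)
    exact ⟨z, by show bas.equivFun (Φ z) = v; rw [hz, LinearEquiv.apply_symm_apply]⟩
  let M : Matrix (Fin n) (Fin n) T := Matrix.of fun i j => co ((1 : T) ⊗ₜ b j) i
  have hM : ∀ v, co (comb b T v) = M *ᵥ v := fun v => by
    funext i
    simp [comb, M, Matrix.mulVec, dotProduct, mul_comm]
  have key : ∀ (T' : Type u) [CommRing T'] [Algebra A T'] (χ : T →ₐ[A] T'),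
      ∃ Ψ : T' ⊗[A] B →ₗ[T'] (Fin n → T'), (∀ z, Ψ (mapT χ z) = χ ∘ co z) ∧
        (∀ w ∈ (RingHom.ker Φ.toRingHom).map (mapT χ), Ψ w = 0) ∧
        ∀ v, Ψ (comb b T' v) = M.map χ *ᵥ v := by
    intro T' _ _ χ
    let l : B →ₗ[A] (Fin n → T') :=
      { toFun := fun y => χ ∘ co ((1 : T) ⊗ₜ y)
        map_add' := fun x y => by funext i; simp [tmul_add]
        map_smul' := fun a y => by
          funext i
          rw [show (1 : T) ⊗ₜ[A] (a • y) = algebraMap A T a • ((1 : T) ⊗ₜ[A] y) by
            rw [tmul_smul, algebraMap_smul], map_smul]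
          simp [Algebra.smul_def] }
    let Ψ : T' ⊗[A] B →ₗ[T'] (Fin n → T') := LinearMap.liftBaseChange T' l
    have h1 : ∀ (t : T') (y : B), Ψ (t ⊗ₜ y) = t • (χ ∘ co ((1 : T) ⊗ₜ y)) := fun t y =>
      LinearMap.liftBaseChange_tmul _ _ _ _
    have h2 : ∀ z, Ψ (mapT χ z) = χ ∘ co z := fun z => by
      induction z using TensorProduct.induction_on with
      | zero => simp only [map_zero]; funext i; simp
      | tmul t y =>
        rw [Algebra.TensorProduct.map_tmul, AlgHom.id_apply, h1, tmul_eq_algebraMap_mul t y, map_smul]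
        funext i
        simp
      | add z w hz hw => rw [map_add, map_add, hz, hw, map_add]; funext i; simp
    refine ⟨Ψ, h2, fun w hw => ?_, fun v => ?_⟩
    · have hgen : ∀ z ∈ RingHom.ker Φ.toRingHom, ∀ r : T' ⊗[A] B, Ψ (r * mapT χ z) = 0 := by
        intro z hz r
        induction r using TensorProduct.induction_on with
        | zero => rw [zero_mul, map_zero]
        | tmul t y =>
          rw [tmul_eq_algebraMap_mul t y, smul_mul_assoc, map_smul,
            show (1 : T') ⊗ₜ[A] y = mapT χ ((1 : T) ⊗ₜ y) by rw [Algebra.TensorProduct.map_tmul, map_one]; rfl,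
            ← map_mul, h2]
          have hz0 : co ((1 : T) ⊗ₜ[A] y * z) = 0 := by
            show bas.equivFun (Φ (_ * z)) = 0
            rw [map_mul, show Φ z = 0 from hz, mul_zero, map_zero]
          rw [hz0]
          funext i
          simp
        | add r r' hr hr' => rw [add_mul, map_add, hr, hr', add_zero]
      suffices H : ∀ r, Ψ (r * w) = 0 by simpa using H 1
      induction hw using Submodule.span_induction with
      | mem x hx =>
        obtain ⟨z, hz, rfl⟩ := hx
        exact hgen z hz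
      | zero => simp
      | add x y _ _ hx hy => intro r; rw [mul_add, map_add, hx, hy, add_zero]
      | smul d x _ hx => intro r; rw [smul_eq_mul, ← mul_assoc]; exact hx _
    · rw [show comb b T' v = ∑ j, v j • mapT χ ((1 : T) ⊗ₜ b j) by simp [comb], map_sum]
      funext i
      simp only [map_smul, h2, Finset.sum_apply, Pi.smul_apply, Function.comp_apply, smul_eq_mul]
      simp [M, Matrix.mulVec, dotProduct, mul_comm]
  refine ⟨M.det, fun T' _ _ χ hu => ?_, fun L _ _ χ hs => ?_⟩
  · obtain ⟨Ψ, h2, hker, hcomb⟩ := key T' χ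
    have hu' : IsUnit (M.map χ).det := by
      rw [show (M.map χ).det = χ M.det from (AlgHom.map_det χ M).symm]
      exact hu
    refine ⟨fun z => ?_, fun v hv => ?_⟩
    · induction z using TensorProduct.induction_on with
      | zero => exact ⟨0, by simp⟩
      | tmul t y =>
        let w : Fin n → T := M.adjugate *ᵥ co ((1 : T) ⊗ₜ y)
        have hw : M.det • ((1 : T) ⊗ₜ[A] y) - comb b T w ∈ RingHom.ker Φ.toRingHom := by
          refine bas.equivFun.map_eq_zero_iff.1 (show co _ = 0 from ?_)
          rw [map_sub, map_smul, hM, Matrix.mulVec_mulVec, Matrix.mul_adjugate, Matrix.smul_mulVec,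
            Matrix.one_mulVec, sub_self]
        have h3 := Ideal.mem_map_of_mem (mapT (B := B) χ) hw
        rw [map_sub, mapT_comb, Algebra.smul_def, map_mul] at h3
        obtain ⟨d, hd⟩ := hu.exists_left_inv
        refine ⟨(t * d) • (χ ∘ w), ?_⟩
        rw [map_smul]
        have h4 := Ideal.mul_mem_left _ (algebraMap T' (T' ⊗[A] B) (t * d)) h3
        convert h4 using 1
        rw [mul_sub, ← Algebra.smul_def (t * d) (comb b T' (χ ∘ w))]
        congr 1
        simp only [Algebra.TensorProduct.algebraMap_apply, Algebra.TensorProduct.map_tmul,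
          Algebra.TensorProduct.tmul_mul_tmul, map_one, mul_one, one_mul, AlgHom.id_apply,
          Algebra.algebraMap_self, RingHom.id_apply]
        rw [mul_assoc, hd, mul_one]
      | add z z' hz hz' =>
        obtain ⟨v, hv⟩ := hz
        obtain ⟨v', hv'⟩ := hz'
        exact ⟨v + v', by rw [map_add, add_sub_add_comm]; exact add_mem hv hv'⟩
    · have h0 : M.map χ *ᵥ v = 0 := by rw [← hcomb]; exact hker _ hv
      exact Matrix.mulVec_injective_of_isUnit ((Matrix.isUnit_iff_isUnit_det _).2 hu')
        (h0.trans (Matrix.mulVec_zero _).symm)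
  · obtain ⟨Ψ, h2, hker, hcomb⟩ := key L χ
    have hΨ : Function.Surjective Ψ := fun v => by
      have hsum : ∀ i, ∃ z, Ψ z = Pi.single i (1 : L) := fun i => by
        obtain ⟨z, hz⟩ := hco (Pi.single i 1)
        refine ⟨mapT χ z, ?_⟩
        rw [h2, hz]
        funext k
        by_cases h : k = i
        · subst h; simp
        · simp [h]
      choose z hz using hsum
      refine ⟨∑ i, v i • z i, ?_⟩
      rw [map_sum]
      funext k
      simp [hz, Pi.single_apply]
    have hs2 : Function.Surjective (M.map χ).mulVec := fun v => by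
      obtain ⟨z, rfl⟩ := hΨ v
      obtain ⟨w, rfl⟩ := hs z
      exact ⟨w, (hcomb w).symm⟩
    have hu : IsUnit (M.map χ) := Matrix.mulVec_surjective_iff_isUnit.1 hs2
    refine ⟨?_, le_bot_iff.1 fun z hz => ?_⟩
    · rw [AlgHom.map_det]
      exact ((Matrix.isUnit_iff_isUnit_det _).1 hu).ne_zero
    · obtain ⟨w, rfl⟩ := hs z
      have h0 := (hcomb w).symm.trans (hker _ hz)
      rw [Matrix.mulVec_injective_of_isUnit hu (h0.trans (Matrix.mulVec_zero _).symm), map_zero]
      exact Submodule.zero_mem _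

end Groth.Agent.Stk19b.GrpdSplit
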