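import Groth.Agent.Stk19b.GrpdSplit.Chart
import Mathlib.RingTheory.Etale.Basic
import Mathlib.RingTheory.Idempotents
import Mathlib.RingTheory.Ideal.IdempotentFG
import Mathlib.RingTheory.Flat.EquationalCriterion
import Mathlib.RingTheory.Localization.BaseChange
import Mathlib.LinearAlgebra.TensorProduct.RightExactness
import Mathlib.LinearAlgebra.Matrix.Charpoly.LinearMap

/-!
# The étale chart of clopen quotients with a given basis, around a field point
-/

set_option autoImplicit false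
set_option backward.isDefEq.respectTransparency false

universe u

noncomputable section

open TensorProduct

namespace Groth.Agent.Stk19b.GrpdSplit

variable {A B : Type u} [CommRing A] [CommRing B] [Algebra A B] {n : ℕ} (b : Fin n → B)

theorem mapT_mapT {T T' T'' : Type u} [CommRing T] [Algebra A T] [CommRing T'] [Algebra A T'] [CommRing T'']
    [Algebra A T''] (ψ : T →ₐ[A] T') (χ : T' →ₐ[A] T'') :
    (mapT (B := B) χ).comp (mapT ψ) = mapT (χ.comp ψ) :=
  Algebra.TensorProduct.ext' fun x y => rfl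

theorem map_mapT {T T' T'' : Type u} [CommRing T] [Algebra A T] [CommRing T'] [Algebra A T'] [CommRing T'']
    [Algebra A T''] (ψ : T →ₐ[A] T') (χ : T' →ₐ[A] T'') (J : Ideal (T ⊗[A] B)) :
    (J.map (mapT ψ)).map (mapT χ) = J.map (mapT (χ.comp ψ)) := by
  rw [Ideal.map_mapₐ, mapT_mapT]

theorem tmul_eq_algebraMap_mul {T : Type u} [CommRing T] [Algebra A T] (t : T) (y : B) :
    t ⊗ₜ[A] y = t • ((1 : T) ⊗ₜ[A] y) := by
  rw [TensorProduct.smul_tmul', smul_eq_mul, mul_one]

section lift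

variable [Module.Flat A B] {T : Type u} [CommRing T] [Algebra A T] (I : Ideal T) (hI : I ^ 2 = ⊥)
  {T₀ : Type u} [CommRing T₀] [Algebra A T₀] (q : T →ₐ[A] T₀) (hq : Function.Surjective q)
  (hker : RingHom.ker q.toRingHom = I)

include hq hker in
theorem exists_eq_add_of_mapT_eq (z : T ⊗[A] B) (hz : mapT q z = 0) :
    z ∈ I.map (algebraMap T (T ⊗[A] B)) := by
  have : z ∈ RingHom.ker (mapT (B := B) q).toRingHom := hz
  rw [show RingHom.ker (mapT (B := B) q).toRingHom =
    RingHom.ker (Algebra.TensorProduct.map q (AlgHom.id A B)) from rfl, Algebra.TensorProduct.rTensor_ker q hq] at this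
  rw [← hker]
  exact this

include hI hq hker in
set_option maxHeartbeats 1000000 in
/-- Lifting an idempotent basis quotient along a square-zero extension. -/
theorem exists_lift (K₀ : Ideal (T₀ ⊗[A] B)) (h : IsBasisQuot b T₀ K₀) (hid : IsIdempotentElem K₀) (hfg : K₀.FG) :
    ∃ K : Ideal (T ⊗[A] B), IsBasisQuot b T K ∧ IsIdempotentElem K ∧ K.FG ∧ K.map (mapT q) = K₀ := by
  classical
  obtain ⟨e₀, he₀, hK₀⟩ := (Ideal.isIdempotentElem_iff_of_fg K₀ hfg).1 hid
  have hsurj : Function.Surjective (mapT (B := B) q) := TensorProduct.map_surjective hq Function.surjective_id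
  have hI2 : ∀ x ∈ I, ∀ y ∈ I, x * y = 0 := fun x hx y hy => by
    have := Ideal.mul_mem_mul hx hy
    rwa [← pow_two, hI, Ideal.mem_bot] at this
  have hnil : ∀ x ∈ RingHom.ker (mapT (B := B) q).toRingHom, IsNilpotent x := fun x hx => by
    refine ⟨2, ?_⟩
    have hx' := exists_eq_add_of_mapT_eq I q hq hker x hx
    have := Ideal.pow_mem_pow hx' 2
    rwa [← Ideal.map_pow, hI, Ideal.map_bot, Ideal.mem_bot] at this
  obtain ⟨e, he, hee⟩ := exists_isIdempotentElem_eq_of_ker_isNilpotent (mapT (B := B) q).toRingHom hnil e₀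
    (hsurj e₀) he₀
  let K : Ideal (T ⊗[A] B) := Ideal.span {e}
  have hKmap : K.map (mapT q) = K₀ := by
    rw [Ideal.map_span, Set.image_singleton, hK₀, show mapT q e = e₀ from hee]
  have hspan : ∀ z, ∃ v, z - comb b T v ∈ K := by
    let S : Submodule T (T ⊗[A] B) := LinearMap.range (comb b T) ⊔ K.restrictScalars T
    have h1 : ∀ z, ∃ s ∈ S, z - s ∈ I.map (algebraMap T (T ⊗[A] B)) := fun z => by
      obtain ⟨v₀, hv₀⟩ := h.1 (mapT q z)
      choose v hv using fun j => hq (v₀ j)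
      rw [← hKmap] at hv₀
      obtain ⟨k, hk, hkk⟩ := (Ideal.mem_map_iff_of_surjective _ hsurj).1 hv₀
      refine ⟨comb b T v + k, Submodule.add_mem_sup ⟨v, rfl⟩ hk, exists_eq_add_of_mapT_eq I q hq hker _ ?_⟩
      rw [map_sub, map_add, mapT_comb, show q ∘ v = v₀ from funext hv, hkk]
      abel
    have h2 : ∀ y ∈ I.map (algebraMap T (T ⊗[A] B)), y ∈ S := by
      intro y hy
      have hy' : y ∈ I • (⊤ : Submodule T (T ⊗[A] B)) := by rwa [Ideal.smul_top_eq_map]
      induction hy' using Submodule.smul_induction_on' with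
      | smul r hr m _ =>
        obtain ⟨s, hs, hms⟩ := h1 m
        have : r • m = r • s := by
          rw [← sub_eq_zero, ← smul_sub]
          have hms' : m - s ∈ I • (⊤ : Submodule T (T ⊗[A] B)) := by rwa [Ideal.smul_top_eq_map]
          clear hms
          generalize m - s = w at hms'
          induction hms' using Submodule.smul_induction_on' with
          | smul r' hr' w _ => rw [smul_smul, hI2 r hr r' hr', zero_smul]
          | add a _ b _ ha hb => rw [smul_add, ha, hb, add_zero]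
        rw [this]
        exact S.smul_mem r hs
      | add a ha b hb iha ihb =>
        refine S.add_mem (iha ?_) (ihb ?_) <;> rwa [← Submodule.restrictScalars_mem T, ← Ideal.smul_top_eq_map]
    intro z
    obtain ⟨s, hs, hzs⟩ := h1 z
    have : z ∈ S := by simpa using S.add_mem hs (h2 _ hzs)
    obtain ⟨_, ⟨v, rfl⟩, k, hk, rfl⟩ := Submodule.mem_sup.1 this
    exact ⟨v, by rw [add_sub_cancel_left]; exact hk⟩
  refine ⟨K, ⟨hspan, ?_⟩, ?_, ⟨{e}, by simp [K]⟩, hKmap⟩
  · intro v hv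
    have hvI : ∀ w : Fin n → T, comb b T w ∈ K → ∀ j, w j ∈ I := fun w hw j => by
      have h0 : comb b T₀ (q ∘ w) ∈ K₀ := by rw [← hKmap, ← mapT_comb]; exact Ideal.mem_map_of_mem _ hw
      rw [← hker]
      exact congrFun (h.2 _ h0) j
    have hKe : ∀ z : T ⊗[A] B, (1 - e) * z - z ∈ K := fun z =>
      Ideal.mem_span_singleton'.2 ⟨-z, by ring⟩
    let x : Fin n → T ⊗[A] B := fun j => (1 - e) * ((1 : T) ⊗ₜ b j)
    have hx : ∑ j, v j • x j = 0 := by
      obtain ⟨w, hw⟩ := Ideal.mem_span_singleton'.1 hv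
      have : (1 - e) * comb b T v = 0 := by
        rw [← hw, mul_comm w e, ← mul_assoc, sub_mul, one_mul, he.eq, sub_self, zero_mul]
      rw [← this]
      simp only [x, comb, LinearMap.coe_mk, AddHom.coe_mk, Finset.mul_sum, mul_smul_comm]
    obtain ⟨k, a, y, hxy, hva⟩ := Module.Flat.isTrivialRelation_of_sum_smul_eq_zero hx
    choose c hc using fun l => hspan (y l)
    have hrow : ∀ j i, (Pi.single j (1 : T) : Fin n → T) i - ∑ l, a j l * c l i ∈ I := fun j i => by
      have hm : comb b T (Pi.single j (1 : T) - ∑ l, a j l • c l) ∈ K := by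
        have e1 : comb b T (Pi.single j (1 : T) - ∑ l, a j l • c l) =
            ((1 : T) ⊗ₜ[A] b j - x j) + ∑ l, a j l • (y l - comb b T (c l)) := by
          rw [map_sub, map_sum, hxy j]
          simp only [map_smul, smul_sub, Finset.sum_sub_distrib]
          rw [show comb b T (Pi.single j (1 : T)) = (1 : T) ⊗ₜ[A] b j by simp [comb, Pi.single_apply, ite_smul]]
          abel
        rw [e1]
        refine add_mem (by rw [← neg_sub]; exact neg_mem (hKe _)) (sum_mem fun l _ => ?_)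
        rw [Algebra.smul_def]
        exact K.mul_mem_left _ (hc l)
      simpa [Finset.sum_apply] using hvI _ hm i
    funext i
    have h0 : ∑ j, v j * ((Pi.single j (1 : T) : Fin n → T) i - ∑ l, a j l * c l i) = 0 :=
      Finset.sum_eq_zero fun j _ => hI2 _ (hvI v hv j) _ (hrow j i)
    have h1 : ∑ j, v j * ∑ l, a j l * c l i = 0 := by
      simp only [Finset.mul_sum]
      rw [Finset.sum_comm]
      exact Finset.sum_eq_zero fun l _ => by
        simp only [← mul_assoc]
        rw [← Finset.sum_mul]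
        exact mul_eq_zero_of_left (hva l) _
    simpa [mul_sub, Finset.sum_sub_distrib, h1, Pi.single_apply] using h0
  · show Ideal.span {e} * Ideal.span {e} = Ideal.span {e}
    rw [Ideal.span_singleton_mul_span_singleton, he.eq]

end lift

theorem eq_of_map_eq {T T₀ : Type u} [CommRing T] [Algebra A T] [CommRing T₀] [Algebra A T₀] (q : T →ₐ[A] T₀)
    (hnil : ∀ x ∈ RingHom.ker (mapT (B := B) q).toRingHom, IsNilpotent x) {K₁ K₂ : Ideal (T ⊗[A] B)}
    (h₁ : IsIdempotentElem K₁) (f₁ : K₁.FG) (h₂ : IsIdempotentElem K₂) (f₂ : K₂.FG)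
    (h : K₁.map (mapT q) = K₂.map (mapT q)) : K₁ = K₂ := by
  obtain ⟨e₁, he₁, rfl⟩ := (Ideal.isIdempotentElem_iff_of_fg K₁ f₁).1 h₁
  obtain ⟨e₂, he₂, rfl⟩ := (Ideal.isIdempotentElem_iff_of_fg K₂ f₂).1 h₂
  rw [Ideal.map_span, Ideal.map_span, Set.image_singleton, Set.image_singleton] at h
  have e1 := Ideal.mem_span_singleton'.1 (h ▸ Ideal.mem_span_singleton_self (mapT (B := B) q e₁))
  have e2 := Ideal.mem_span_singleton'.1 (h.symm ▸ Ideal.mem_span_singleton_self (mapT (B := B) q e₂))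
  obtain ⟨a, ha⟩ := e1
  obtain ⟨c, hc⟩ := e2
  have i1 : mapT (B := B) q e₁ * mapT q e₁ = mapT q e₁ := (he₁.map _).eq
  have i2 : mapT (B := B) q e₂ * mapT q e₂ = mapT q e₂ := (he₂.map _).eq
  have e12 : mapT (B := B) q e₁ = mapT q e₂ := by
    calc mapT (B := B) q e₁ = mapT q e₁ * mapT q e₂ := by
          conv_lhs => rw [← ha, ← i2, ← mul_assoc, ha]
      _ = mapT q e₂ := by
          conv_rhs => rw [← hc, ← i1, ← mul_assoc, hc, mul_comm]
  rw [eq_of_isNilpotent_sub_of_isIdempotentElem he₁ he₂ (hnil _ (by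
    show mapT q (e₁ - e₂) = 0
    rw [map_sub, e12, sub_self]))]

section chart

variable {κ : Type u} [Field κ] [Algebra A κ]
  (hκ : ∀ c : κ, ∃ a s : A, IsUnit (algebraMap A κ s) ∧ c * algebraMap A κ s = algebraMap A κ a)

include hκ in
theorem algHom_ext_fractions {L : Type u} [CommRing L] [Algebra A L] (f g : κ →ₐ[A] L) : f = g := by
  refine AlgHom.ext fun c => ?_
  obtain ⟨a, s, hs, h⟩ := hκ c
  have hu : IsUnit (algebraMap A L s) := f.commutes s ▸ hs.map f
  refine hu.mul_left_injective ?_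
  show f c * algebraMap A L s = g c * algebraMap A L s
  conv_lhs => rw [← f.commutes s, ← map_mul, h, AlgHom.commutes]
  conv_rhs => rw [← g.commutes s, ← map_mul, h, AlgHom.commutes]

include hκ in
/-- The kernel of the base change to the fraction field of the image. -/
theorem exists_smul_mem_ker {P : Type u} [CommRing P] [Algebra A P] (ψ : P →ₐ[A] κ) (z : P ⊗[A] B)
    (hz : mapT ψ z = 0) :
    ∃ s : A, IsUnit (algebraMap A κ s) ∧
      s • z ∈ (RingHom.ker ψ.toRingHom).map (algebraMap P (P ⊗[A] B)) := by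
  let S₀ : Submonoid A := (IsUnit.submonoid κ).comap (algebraMap A κ).toMonoidHom
  let p := RingHom.ker ψ.toRingHom
  let f : P ⧸ p →ₐ[A] κ := Ideal.Quotient.liftₐ p ψ fun x hx => hx
  haveI : IsLocalizedModule S₀ f.toLinearMap :=
    { map_units := fun s => (Module.End.isUnit_iff _).2 (by
        have hs : IsUnit (algebraMap A κ (s : A)) := s.2
        refine ⟨fun x y hxy => hs.mul_right_injective ?_, fun x => ⟨↑hs.unit⁻¹ * x, ?_⟩⟩
        · simpa [Algebra.smul_def] using hxy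
        · show (s : A) • (↑hs.unit⁻¹ * x) = x
          rw [Algebra.smul_def, ← mul_assoc, IsUnit.mul_val_inv, one_mul])
      surj := fun c => by
        obtain ⟨a, s, hs, h⟩ := hκ c
        refine ⟨⟨algebraMap A _ a, ⟨s, hs⟩⟩, ?_⟩
        show s • c = f (algebraMap A _ a)
        rw [Algebra.smul_def, mul_comm, h, AlgHom.commutes]
      exists_of_eq := fun {x y} h => by
        refine ⟨1, ?_⟩
        rw [one_smul, one_smul]
        exact RingHom.kerLift_injective ψ.toRingHom h }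
  let q : P →ₐ[A] P ⧸ p := Ideal.Quotient.mkₐ A p
  have hfq : f.comp q = ψ := AlgHom.ext fun x => rfl
  have h0 : AlgebraTensorModule.rTensor A B f.toLinearMap (mapT q z) = 0 := by
    rw [show AlgebraTensorModule.rTensor A B f.toLinearMap (mapT q z) = mapT f (mapT q z) from rfl,
      ← AlgHom.comp_apply, mapT_mapT, hfq, hz]
  obtain ⟨⟨s, hs⟩, hsz⟩ := (IsLocalizedModule.eq_zero_iff S₀ _).1 h0
  refine ⟨s, hs, ?_⟩
  have : s • z ∈ RingHom.ker (Algebra.TensorProduct.map q (AlgHom.id A B)) := by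
    rw [RingHom.mem_ker, map_smul]
    exact hsz
  rwa [Algebra.TensorProduct.rTensor_ker q Ideal.Quotient.mk_surjective,
    show RingHom.ker q = p from Ideal.mk_ker] at this

/-- Elements of an ideal with basis quotient in terms of finitely many generators, modulo its square. -/
theorem exists_combination {P : Type u} [CommRing P] [Algebra A P] {J : Ideal (P ⊗[A] B)} (hJ : IsBasisQuot b P J)
    {N : ℕ} (z : Fin N → P ⊗[A] B) (hz : Ideal.span (Set.range z) = J) {j : P ⊗[A] B} (hj : j ∈ J) :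
    ∃ m : Fin N × Fin n → P, j - ∑ k, m k • (((1 : P) ⊗ₜ[A] b k.2) * z k.1) ∈ J * J := by
  rw [← hz, Ideal.mem_span_range_iff_exists_fun] at hj
  obtain ⟨r, rfl⟩ := hj
  choose v hv using fun i => hJ.1 (r i)
  refine ⟨fun k => v k.1 k.2, ?_⟩
  rw [Fintype.sum_prod_type, ← Finset.sum_sub_distrib]
  refine sum_mem fun i _ => ?_
  have : r i * z i - ∑ l, v i l • (((1 : P) ⊗ₜ[A] b l) * z i) = (r i - comb b P (v i)) * z i := by
    simp only [comb, LinearMap.coe_mk, AddHom.coe_mk, sub_mul, Finset.sum_mul, smul_mul_assoc]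
  rw [this]
  exact Ideal.mul_mem_mul (hv i) (hz ▸ Ideal.subset_span ⟨i, rfl⟩)

include hκ in
set_option maxHeartbeats 1000000 in
/-- An element outside the point which carries the ideal into its square. -/
theorem exists_annihilator {P₀ : Type u} [CommRing P₀] [Algebra A P₀] (ψ : P₀ →ₐ[A] κ) (J₀ : Ideal (P₀ ⊗[A] B))
    (hfg : J₀.FG) (hJ₀ : IsBasisQuot b P₀ J₀) (hψ : J₀.map (mapT ψ) = ⊥) :
    ∃ g : P₀, ψ g ≠ 0 ∧ ∀ w ∈ J₀, g • w ∈ J₀ * J₀ := by
  classical
  obtain ⟨N, z, hz⟩ := Submodule.fg_iff_exists_fin_generating_family.1 hfg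
  let p := RingHom.ker ψ.toRingHom
  let y : Fin N × Fin n → P₀ ⊗[A] B := fun k => ((1 : P₀) ⊗ₜ[A] b k.2) * z k.1
  have hy : ∀ k, y k ∈ J₀ := fun k => J₀.mul_mem_left _ (hz ▸ Ideal.subset_span ⟨k.1, rfl⟩)
  have hdec : ∀ w ∈ p • (⊤ : Submodule P₀ (P₀ ⊗[A] B)), ∃ (v : Fin n → P₀) (m : Fin N × Fin n → P₀),
      (∀ k, m k ∈ p) ∧ w - comb b P₀ v - ∑ k, m k • y k ∈ J₀ * J₀ := by
    intro w hw
    induction hw using Submodule.smul_induction_on' with
    | smul r hr x _ =>
      obtain ⟨v, hv⟩ := hJ₀.1 x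
      obtain ⟨m, hm⟩ := exists_combination b hJ₀ z hz hv
      refine ⟨r • v, fun k => r * m k, fun k => p.mul_mem_right _ hr, ?_⟩
      simp only [map_smul, mul_smul, ← Finset.smul_sum, ← smul_sub]
      rw [Algebra.smul_def]
      exact Ideal.mul_mem_left _ _ hm
    | add a _ c _ ha hc =>
      obtain ⟨v, m, hm, h⟩ := ha
      obtain ⟨v', m', hm', h'⟩ := hc
      refine ⟨v + v', m + m', fun k => p.add_mem (hm k) (hm' k), ?_⟩
      convert add_mem h h' using 1
      simp only [map_add, Pi.add_apply, add_smul, Finset.sum_add_distrib]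
      abel
  have hrow : ∀ k, ∃ (s : P₀) (m : Fin N × Fin n → P₀), ψ s ≠ 0 ∧ (∀ l, m l ∈ p) ∧
      s • y k - ∑ l, m l • y l ∈ J₀ * J₀ := by
    intro k
    obtain ⟨s, hs, hsy⟩ := exists_smul_mem_ker hκ ψ (y k)
      ((Submodule.mem_bot _).1 (hψ ▸ Ideal.mem_map_of_mem (mapT ψ) (hy k)))
    have hsy' : algebraMap A P₀ s • y k ∈ p • (⊤ : Submodule P₀ (P₀ ⊗[A] B)) := by
      rw [Ideal.smul_top_eq_map, algebraMap_smul]; exact hsy
    obtain ⟨v, m, hm, h⟩ := hdec _ hsy'
    refine ⟨algebraMap A P₀ s, m, by rw [AlgHom.commutes]; exact hs.ne_zero, hm, ?_⟩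
    have hv : v = 0 := hJ₀.2 v (by
      have h1 : algebraMap A P₀ s • y k - ∑ l, m l • y l ∈ J₀ := sub_mem
        (by rw [Algebra.smul_def]; exact J₀.mul_mem_left _ (hy k))
        (sum_mem fun l _ => by rw [Algebra.smul_def]; exact J₀.mul_mem_left _ (hy l))
      convert sub_mem h1 (Ideal.mul_le_right h) using 1
      abel)
    simpa [hv] using h
  choose s m hs hm hsm using hrow
  let M : Matrix (Fin N × Fin n) (Fin N × Fin n) P₀ := Matrix.diagonal s - Matrix.of m
  have hM : ∀ k, ∑ l, M k l • y l ∈ J₀ * J₀ := fun k => by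
    simpa [M, Matrix.diagonal, sub_smul, ite_smul, Finset.sum_sub_distrib] using hsm k
  let g := M.det
  have hg : ψ g ≠ 0 := by
    rw [show ψ g = (ψ.mapMatrix M).det from AlgHom.map_det ψ M]
    have : ψ.mapMatrix M = Matrix.diagonal fun k => ψ (s k) := by
      ext k l
      have h0 : ψ (m k l) = 0 := hm k l
      by_cases h : k = l
      · subst h; simp [M, h0]
      · simp [M, h0, h]
    rw [this, Matrix.det_diagonal]
    exact Finset.prod_ne_zero_iff.2 fun k _ => hs k
  have hgy : ∀ l, g • y l ∈ J₀ * J₀ := fun l => by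
    have e1 : g • y l = ∑ i, M.adjugate l i • ∑ k, M i k • y k := by
      have := congrArg (fun X : Matrix (Fin N × Fin n) (Fin N × Fin n) P₀ => ∑ k, X l k • y k) M.adjugate_mul
      simp only [Matrix.smul_apply, Matrix.one_apply, smul_eq_mul, mul_ite, mul_one, mul_zero, ite_smul, zero_smul,
        Finset.sum_ite_eq, Finset.mem_univ, if_true, Matrix.mul_apply, Finset.sum_smul, mul_smul] at this
      rw [← this, Finset.sum_comm]
      simp only [Finset.smul_sum]
    rw [e1]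
    refine sum_mem fun i _ => ?_
    rw [Algebra.smul_def]
    exact Ideal.mul_mem_left _ _ (hM i)
  refine ⟨g, hg, fun w hw => ?_⟩
  obtain ⟨m, hm⟩ := exists_combination b hJ₀ z hz hw
  have h1 : g • (w - ∑ k, m k • y k) + ∑ k, m k • (g • y k) ∈ J₀ * J₀ := by
    refine add_mem ?_ (sum_mem fun k _ => ?_) <;> rw [Algebra.smul_def]
    exacts [Ideal.mul_mem_left _ _ hm, Ideal.mul_mem_left _ _ (hgy k)]
  simpa [smul_sub, Finset.smul_sum, smul_comm g] using h1

variable [Module.Flat A B] [Algebra.FinitePresentation A B]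

/-- A map inverting an element universally. -/
theorem exists_away {P₀ : Type u} [CommRing P₀] [Algebra A P₀] [Algebra.FinitePresentation A P₀] (g : P₀) :
    ∃ (P : Type u) (_ : CommRing P) (_ : Algebra A P) (_ : Algebra.FinitePresentation A P) (loc : P₀ →ₐ[A] P),
      IsUnit (loc g) ∧ (∀ (T : Type u) [CommRing T] [Algebra A T] (φ φ' : P →ₐ[A] T),
        φ.comp loc = φ'.comp loc → φ = φ') ∧
      ∀ (T : Type u) [CommRing T] [Algebra A T] (ψ : P₀ →ₐ[A] T), IsUnit (ψ g) →
        ∃ φ : P →ₐ[A] T, φ.comp loc = ψ := by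
  refine ⟨Localization.Away g, inferInstance, inferInstance, inferInstance,
    IsScalarTower.toAlgHom A P₀ (Localization.Away g), IsLocalization.Away.algebraMap_isUnit g,
    fun T _ _ φ φ' h => AlgHom.coe_ringHom_injective (IsLocalization.ringHom_ext (Submonoid.powers g)
      (congrArg AlgHom.toRingHom h)), fun T _ _ ψ hu => ?_⟩
  refine ⟨IsLocalization.liftAlgHom (S := Localization.Away g) (M := Submonoid.powers g) (f := ψ) ?_, ?_⟩
  · rintro ⟨_, k, rfl⟩
    simpa using hu.pow k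
  · exact AlgHom.ext fun x => IsLocalization.lift_eq _ _

omit [Algebra.FinitePresentation A B] in
/-- Idempotence after inverting the element. -/
theorem isIdempotentElem_map {P₀ P : Type u} [CommRing P₀] [Algebra A P₀] [CommRing P] [Algebra A P]
    (loc : P₀ →ₐ[A] P) (g : P₀) (hlu : IsUnit (loc g)) (J₀ : Ideal (P₀ ⊗[A] B))
    (hgJ : ∀ w ∈ J₀, g • w ∈ J₀ * J₀) : IsIdempotentElem (J₀.map (mapT (B := B) loc)) := by
  refine le_antisymm Ideal.mul_le_left (Ideal.map_le_iff_le_comap.2 fun w hw => ?_)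
  have h2 := Ideal.mem_map_of_mem (mapT (B := B) loc) (hgJ w hw)
  rw [Ideal.map_mul, Algebra.smul_def, map_mul] at h2
  show mapT loc w ∈ J₀.map (mapT (B := B) loc) * J₀.map (mapT (B := B) loc)
  refine (Ideal.unit_mul_mem_iff_mem _ ?_).1 h2
  show IsUnit (mapT loc (g ⊗ₜ[A] 1))
  rw [Algebra.TensorProduct.map_tmul, map_one]
  exact hlu.map (Algebra.TensorProduct.includeLeft : P →ₐ[A] P ⊗[A] B)

omit [Algebra.FinitePresentation A B] in
set_option maxHeartbeats 1000000 in
/-- The chart inverted is formally etale. -/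
theorem formallyEtale_chart {P₀ P : Type u} [CommRing P₀] [Algebra A P₀] [CommRing P] [Algebra A P]
    (loc : P₀ →ₐ[A] P) (g : P₀) (hlu : IsUnit (loc g))
    (hl : ∀ (T : Type u) [CommRing T] [Algebra A T] (φ φ' : P →ₐ[A] T), φ.comp loc = φ'.comp loc → φ = φ')
    (hext : ∀ (T : Type u) [CommRing T] [Algebra A T] (ψ : P₀ →ₐ[A] T), IsUnit (ψ g) →
        ∃ φ : P →ₐ[A] T, φ.comp loc = ψ)
    (J₀ : Ideal (P₀ ⊗[A] B)) (hfg : J₀.FG) (hid : IsIdempotentElem (J₀.map (mapT (B := B) loc)))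
    (hbc : ∀ (T : Type u) [CommRing T] [Algebra A T] (ψ : P₀ →ₐ[A] T), IsBasisQuot b T (J₀.map (mapT ψ)))
    (huniv : ∀ (T : Type u) [CommRing T] [Algebra A T] (K : Ideal (T ⊗[A] B)), IsBasisQuot b T K →
      ∃! ψ : P₀ →ₐ[A] T, J₀.map (mapT ψ) = K) : Algebra.FormallyEtale A P := by
  refine Algebra.FormallyEtale.iff_comp_bijective.2 fun T _ _ I hI => ?_
  let q : T →ₐ[A] T ⧸ I := Ideal.Quotient.mkₐ A I
  have hqs : Function.Surjective q := Ideal.Quotient.mk_surjective
  have hk : RingHom.ker q.toRingHom = I := Ideal.mk_ker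
  have hnil : ∀ x ∈ RingHom.ker (mapT (B := B) q).toRingHom, IsNilpotent x := fun x hx => by
    refine ⟨2, ?_⟩
    have := Ideal.pow_mem_pow (exists_eq_add_of_mapT_eq I q hqs hk x hx) 2
    rwa [← Ideal.map_pow, hI, Ideal.map_bot, Ideal.mem_bot] at this
  let J := J₀.map (mapT (B := B) loc)
  have hJfg : J.FG := hfg.map _
  have huu : ∀ (T' : Type u) [CommRing T'] [Algebra A T'] (a c : P₀ →ₐ[A] T'),
      J₀.map (mapT a) = J₀.map (mapT c) → a = c := fun T' _ _ a c h => by
    obtain ⟨_, _, hu⟩ := huniv T' _ (hbc T' a)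
    exact (hu _ rfl).trans (hu c h.symm).symm
  have hidm : ∀ (T' : Type u) [CommRing T'] [Algebra A T'] (φ : P →ₐ[A] T'),
      IsIdempotentElem (J.map (mapT (B := B) φ)) := fun T' _ _ φ => by
    show _ * _ = _
    rw [← Ideal.map_mul]
    exact congrArg (Ideal.map (mapT (B := B) φ)) hid
  refine ⟨fun ψ₁ ψ₂ h => hl T _ _ (huu T _ _ ?_), fun f => ?_⟩
  · rw [← map_mapT, ← map_mapT]
    refine eq_of_map_eq q hnil (hidm T ψ₁) (hJfg.map _) (hidm T ψ₂) (hJfg.map _) ?_
    have h' : q.comp ψ₁ = q.comp ψ₂ := h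
    exact (map_mapT ψ₁ q J).trans (h'.symm ▸ (map_mapT ψ₂ q J).symm)
  · have hb₀ : IsBasisQuot b (T ⧸ I) (J.map (mapT f)) := by
      rw [map_mapT]
      exact hbc _ _
    obtain ⟨K, hK, -, -, hKq⟩ := exists_lift b I hI q hqs hk _ hb₀ (hidm _ f) (hJfg.map _)
    obtain ⟨ψ', hψ', -⟩ := huniv T K hK
    have e1 : q.comp ψ' = f.comp loc := huu _ _ _ (by rw [← map_mapT, hψ', hKq, map_mapT])
    have hu' : IsUnit (ψ' g) := by
      have : IsUnit (q (ψ' g)) := (AlgHom.congr_fun e1 g).symm ▸ hlu.map f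
      obtain ⟨u', hu'⟩ := this.exists_right_inv
      obtain ⟨w, rfl⟩ := hqs u'
      refine isUnit_of_mul_isUnit_left (y := w) ?_
      have h2 : ψ' g * w - 1 ∈ I := by
        rw [← hk]
        show q _ = 0
        rw [map_sub, map_mul, hu', map_one, sub_self]
      have := IsNilpotent.isUnit_add_one (r := ψ' g * w - 1) ⟨2, by
        have := Ideal.pow_mem_pow h2 2
        rwa [hI, Ideal.mem_bot] at this⟩
      rwa [sub_add_cancel] at this
    obtain ⟨φ, hφ⟩ := hext T ψ' hu'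
    exact ⟨φ, hl _ _ _ ((congrArg q.comp hφ).trans e1)⟩

include hκ in
set_option maxHeartbeats 2000000 in
/-- **The etale chart around a field point.** -/
theorem exists_etale_chart (hb : Function.Bijective (comb (A := A) b κ)) :
    ∃ (P : Type u) (_ : CommRing P) (_ : Algebra A P) (_ : Algebra.Etale A P) (J : Ideal (P ⊗[A] B))
      (ψ₀ : P →ₐ[A] κ),
      IsBasisQuot b P J ∧ IsIdempotentElem J ∧ J.FG ∧ J.map (mapT ψ₀) = ⊥ ∧
      (∀ (T : Type u) [CommRing T] [Algebra A T] (ψ₁ ψ₂ : P →ₐ[A] T),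
        J.map (mapT ψ₁) = J.map (mapT ψ₂) → ψ₁ = ψ₂) ∧
      ∀ (T : Type u) [CommRing T] [Algebra A T] (K : Ideal (T ⊗[A] B)), IsBasisQuot b T K → ∃ γ : T,
        (∀ (T' : Type u) [CommRing T'] [Algebra A T'] (χ : T →ₐ[A] T'), IsUnit (χ γ) →
          ∃ ψ : P →ₐ[A] T', J.map (mapT ψ) = K.map (mapT χ)) ∧
        ∀ (L : Type u) [CommRing L] [Algebra A L] [IsDomain L] (χ : T →ₐ[A] L) (_ι : κ →ₐ[A] L),
          K.map (mapT χ) = ⊥ → χ γ ≠ 0 := by
  classical
  obtain ⟨P₀, _, _, _, J₀, hJfg, hJ₀, hbc, huniv⟩ := exists_chart (A := A) b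
  obtain ⟨ψ, hψ, -⟩ := huniv κ ⊥ ⟨fun z => by
      obtain ⟨v, rfl⟩ := hb.2 z
      exact ⟨v, by simp⟩,
    fun v hv => hb.1 ((Ideal.mem_bot.1 hv).trans (map_zero _).symm)⟩
  obtain ⟨g, hg, hgJ⟩ := exists_annihilator b hκ ψ J₀ hJfg hJ₀ hψ
  obtain ⟨P, _, _, _, loc, hlu, hl, hext⟩ := exists_away (A := A) g
  have hid := isIdempotentElem_map loc g hlu J₀ hgJ
  haveI := formallyEtale_chart b loc g hlu hl hext J₀ hJfg hid hbc huniv
  obtain ⟨ψ₀, hψ₀⟩ := hext κ ψ (isUnit_iff_ne_zero.2 hg)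
  refine ⟨P, inferInstance, inferInstance, ⟨inferInstance, inferInstance⟩, J₀.map (mapT loc), ψ₀, hbc P loc, hid,
    hJfg.map _, by rw [map_mapT, hψ₀, hψ], fun T _ _ ψ₁ ψ₂ h => hl T _ _ ?_, fun T _ _ K hK => ?_⟩
  · rw [map_mapT, map_mapT] at h
    obtain ⟨_, _, hu⟩ := huniv T _ (hbc T (ψ₁.comp loc))
    exact (hu _ rfl).trans (hu _ h.symm).symm
  obtain ⟨ψT, hψT, hu⟩ := huniv T K hK
  refine ⟨ψT g, fun T' _ _ χ hχ => ?_, fun L _ _ _ χ ι hL => ?_⟩
  · obtain ⟨φ, hφ⟩ := hext T' (χ.comp ψT) hχ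
    exact ⟨φ, by rw [map_mapT, hφ, ← map_mapT, hψT]⟩
  · have hbL : IsBasisQuot b L (⊥ : Ideal (L ⊗[A] B)) := by
      rw [← hL, ← hψT, map_mapT]
      exact hbc _ _
    obtain ⟨_, _, hu⟩ := huniv L _ hbL
    have e : χ.comp ψT = ι.comp ψ := (hu _ (show J₀.map (mapT (χ.comp ψT)) = ⊥ by rw [← map_mapT, hψT, hL])).trans
      (hu _ (show J₀.map (mapT (ι.comp ψ)) = ⊥ by rw [← map_mapT, hψ, Ideal.map_bot])).symm
    show χ.comp ψT g ≠ 0
    rw [e]
    exact (map_ne_zero_iff ι.toRingHom ι.toRingHom.injective).2 hg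

end chart

end Groth.Agent.Stk19b.GrpdSplit
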