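import Groth.Agent.Stk19b.GrpdSplit.Setup
import Groth.Agent.Stk19b.GrpdSplit.Etale
import Mathlib.RingTheory.Ideal.GoingUp

/-!
# Points of the clopen pieces and their translates
-/

set_option autoImplicit false
set_option backward.isDefEq.respectTransparency false

universe u

noncomputable section

open CategoryTheory AlgebraicGeometry TensorProduct

namespace Groth.Agent.Stk19b.GrpdSplit

open Groth.Agent.GrpdLib (liftRing liftRing_tmul)

variable {S : Scheme.{u}} {G : Grpd.GroupoidScheme S} {A B : Type u} [CommRing A] [CommRing B] [Algebra A B]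
  (c : Arr G A B) {P : Type u} [CommRing P] [Algebra A P] (J : Ideal (P ⊗[A] B))

/-- The functions on the clopen piece. -/
abbrev Piece : Type u := (P ⊗[A] B) ⧸ J

/-- The inclusion of the coordinates of the arrows. -/
def jB : B →+* Piece J :=
  (Ideal.Quotient.mk J).comp (Algebra.TensorProduct.includeRight : B →ₐ[A] P ⊗[A] B).toRingHom

variable {D D' : Type u} [CommRing D] [CommRing D']

/-- The parameter of a point of the piece. -/
abbrev hq (q : Piece J →+* D) : P →+* D := q.comp (algebraMap P (Piece J))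

/-- The arrow of a point of the piece. -/
abbrev aq (q : Piece J →+* D) : B →+* D := q.comp (jB J)

theorem q_mk_tmul (q : Piece J →+* D) (x : P) (y : B) :
    q (Ideal.Quotient.mk J (x ⊗ₜ[A] y)) = hq J q x * aq J q y := by
  rw [show x ⊗ₜ[A] y = (x ⊗ₜ[A] (1 : B)) * ((1 : P) ⊗ₜ[A] y) by rw [Algebra.TensorProduct.tmul_mul_tmul, mul_one, one_mul],
    map_mul, map_mul]
  rfl

theorem q_ext {q q' : Piece J →+* D} (h : hq J q = hq J q') (a : aq J q = aq J q') : q = q' := by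
  refine Ideal.Quotient.ringHom_ext (RingHom.ext fun z => ?_)
  show q (Ideal.Quotient.mk J z) = q' (Ideal.Quotient.mk J z)
  induction z using TensorProduct.induction_on with
  | zero => simp only [map_zero]
  | tmul x y => rw [q_mk_tmul, q_mk_tmul, h, a]
  | add z w hz hw => simp only [map_add, hz, hw]

theorem aq_alg (q : Piece J →+* D) :
    (aq J q).comp (algebraMap A B) = (hq J q).comp (algebraMap A P) := by
  refine RingHom.ext fun r => ?_
  show q (Ideal.Quotient.mk J ((1 : P) ⊗ₜ[A] algebraMap A B r)) = q (Ideal.Quotient.mk J _)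
  congr 2
  rw [Algebra.algebraMap_eq_smul_one, ← smul_tmul, ← Algebra.algebraMap_eq_smul_one]
  rfl

/-- A pair lies in the piece. -/
def InZ (h : P →+* D) (a : B →+* D) : Prop := ∃ q : Piece J →+* D, hq J q = h ∧ aq J q = a

theorem InZ.map {h : P →+* D} {a : B →+* D} (H : InZ J h a) (χ : D →+* D') : InZ J (χ.comp h) (χ.comp a) := by
  obtain ⟨q, rfl, rfl⟩ := H
  exact ⟨χ.comp q, rfl, rfl⟩

theorem inZ_iff {h : P →+* D} {a : B →+* D} (hc : a.comp (algebraMap A B) = h.comp (algebraMap A P)) :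
    InZ J h a ↔ J ≤ RingHom.ker (liftRing h a hc) := by
  constructor
  · rintro ⟨q, rfl, rfl⟩ z hz
    have e : liftRing (hq J q) (aq J q) hc = q.comp (Ideal.Quotient.mk J) := by
      refine RingHom.ext fun w => ?_
      induction w using TensorProduct.induction_on with
      | zero => simp only [map_zero]
      | tmul x y => rw [liftRing_tmul]; exact (q_mk_tmul J q x y).symm
      | add z w hz hw => simp only [map_add, hz, hw]
    rw [RingHom.mem_ker, e, RingHom.comp_apply, Ideal.Quotient.eq_zero_iff_mem.2 hz, map_zero]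
  · intro H
    refine ⟨Ideal.Quotient.lift J (liftRing h a hc) fun z hz => H hz, RingHom.ext fun x => ?_, RingHom.ext fun y => ?_⟩
    · show liftRing h a hc (x ⊗ₜ[A] 1) = _
      rw [liftRing_tmul, map_one, mul_one]
    · show liftRing h a hc (1 ⊗ₜ[A] y) = _
      rw [liftRing_tmul, map_one, one_mul]

/-- The translate of the piece by a point is the piece of `h₂`. -/
def Tr (q : Piece J →+* D) (h₂ : P →+* D) : Prop :=
  h₂.comp (algebraMap A P) = (aq J q).comp c.tB ∧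
    ∀ (D' : Type u) [CommRing D'] (χ : D →+* D') (y : B →+* D'),
      y.comp (algebraMap A B) = (χ.comp (aq J q)).comp c.tB →
        (InZ J (χ.comp h₂) y ↔
          ∃ q' : Piece J →+* D', hq J q' = χ.comp (hq J q) ∧ c.Rel y (χ.comp (aq J q)) (aq J q'))

variable {c J}

theorem Tr.map {q : Piece J →+* D} {h₂ : P →+* D} (H : Tr c J q h₂) (χ : D →+* D') :
    Tr c J (χ.comp q) (χ.comp h₂) := by
  refine ⟨by rw [RingHom.comp_assoc, H.1]; rfl, fun D'' _ χ' y hy => ?_⟩
  exact H.2 D'' (χ'.comp χ) y hy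

theorem Tr.unique {q : Piece J →+* D} {h₂ h₂' : P →+* D}
    (hinj : ∀ (T : Type u) [CommRing T] [Algebra A T] (ψ₁ ψ₂ : P →ₐ[A] T),
      J.map (mapT ψ₁) = J.map (mapT ψ₂) → ψ₁ = ψ₂)
    (H : Tr c J q h₂) (H' : Tr c J q h₂') : h₂ = h₂' := by
  letI : Algebra A D := ((aq J q).comp c.tB).toAlgebra
  let ψ₁ : P →ₐ[A] D := { h₂ with commutes' := fun r => RingHom.congr_fun H.1 r }
  let ψ₂ : P →ₐ[A] D := { h₂' with commutes' := fun r => RingHom.congr_fun H'.1 r }
  have key : ∀ (k k' : P →+* D) (φ φ' : P →ₐ[A] D), φ.toRingHom = k → φ'.toRingHom = k' →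
      Tr c J q k → Tr c J q k' → J.map (mapT φ') ≤ J.map (mapT φ) := by
    intro k k' φ φ' hk hk' T T'
    let χ : D →+* (D ⊗[A] B) ⧸ J.map (mapT φ) :=
      (Ideal.Quotient.mk _).comp (Algebra.TensorProduct.includeLeft : D →ₐ[A] D ⊗[A] B).toRingHom
    let y : B →+* (D ⊗[A] B) ⧸ J.map (mapT φ) :=
      (Ideal.Quotient.mk _).comp (Algebra.TensorProduct.includeRight : B →ₐ[A] D ⊗[A] B).toRingHom
    have hy : y.comp (algebraMap A B) = (χ.comp (aq J q)).comp c.tB := RingHom.ext fun r => by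
      show Ideal.Quotient.mk _ ((1 : D) ⊗ₜ[A] algebraMap A B r) = Ideal.Quotient.mk _ (algebraMap A D r ⊗ₜ[A] (1 : B))
      rw [Algebra.algebraMap_eq_smul_one, Algebra.algebraMap_eq_smul_one, smul_tmul]
    have hck : ∀ ρ : P →ₐ[A] D, y.comp (algebraMap A B) = (χ.comp ρ.toRingHom).comp (algebraMap A P) := fun ρ =>
      hy.trans (RingHom.ext fun r => congrArg χ (ρ.commutes r).symm)
    have hl : ∀ (ρ : P →ₐ[A] D) (z : P ⊗[A] B),
        liftRing (χ.comp ρ.toRingHom) y (hck ρ) z = Ideal.Quotient.mk _ (mapT ρ z) := fun ρ z => by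
      induction z using TensorProduct.induction_on with
      | zero => simp only [map_zero]
      | tmul x w =>
        rw [liftRing_tmul, Algebra.TensorProduct.map_tmul, AlgHom.id_apply]
        show Ideal.Quotient.mk _ (ρ x ⊗ₜ[A] (1 : B)) * Ideal.Quotient.mk _ ((1 : D) ⊗ₜ[A] w) = _
        rw [← map_mul, Algebra.TensorProduct.tmul_mul_tmul, mul_one, one_mul]
      | add z w hz hw => simp only [map_add, hz, hw]
    have hin : InZ J (χ.comp k) y := by
      subst hk
      refine (inZ_iff J (hck φ)).2 fun z hz => ?_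
      rw [RingHom.mem_ker, hl, Ideal.Quotient.eq_zero_iff_mem]
      exact Ideal.mem_map_of_mem _ hz
    have hin' : InZ J (χ.comp φ'.toRingHom) y := hk' ▸ (T'.2 _ χ y hy).2 ((T.2 _ χ y hy).1 hin)
    refine Ideal.map_le_iff_le_comap.2 fun z hz => ?_
    rw [Ideal.mem_comap, ← Ideal.Quotient.eq_zero_iff_mem, ← hl]
    exact (inZ_iff J (hck φ')).1 hin' hz
  exact congrArg AlgHom.toRingHom (hinj D ψ₁ ψ₂
    (le_antisymm (key h₂' h₂ ψ₂ ψ₁ rfl rfl H' H) (key h₂ h₂' ψ₁ ψ₂ rfl rfl H H')))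

theorem Tr.of_isId {q : Piece J →+* D} {x : A →+* D} (h : c.IsId x (aq J q)) : Tr c J q (hq J q) := by
  refine ⟨by rw [← aq_alg, h.src, h.tgt], fun D' _ χ y hy => ⟨?_, ?_⟩⟩
  · rintro ⟨q', hq', rfl⟩
    refine ⟨q', hq', Arr.rel_id_right (h.map χ) ?_⟩
    rw [hy, (h.map χ).tgt]
  · rintro ⟨q', hq', hr⟩
    refine ⟨q', hq', hr.unique (Arr.rel_id_right (h.map χ) ?_)⟩
    rw [hy, (h.map χ).tgt]

theorem Tr.comp {q q' qb : Piece J →+* D} {h₂ h₃ : P →+* D}
    (hμ : ∀ (D' : Type u) [CommRing D'] (χ : D →+* D') (q₁ q₂ : Piece J →+* D'),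
      hq J q₁ = χ.comp (hq J q) → hq J q₂ = χ.comp (hq J q) → ∃ y, c.Rel y (aq J q₁) (aq J q₂))
    (H : Tr c J q h₂) (hq' : hq J q' = h₂) (hb : hq J qb = hq J q)
    (hr : c.Rel (aq J q') (aq J q) (aq J qb)) (H' : Tr c J qb h₃) : Tr c J q' h₃ := by
  refine ⟨by rw [H'.1, hr.tgt], fun D' _ χ y hy => ?_⟩
  have hy' : y.comp (algebraMap A B) = (χ.comp (aq J qb)).comp c.tB := by
    rw [hy, (hr.map χ).tgt]
  rw [H'.2 D' χ y hy']
  constructor
  · rintro ⟨q₃, e₃, r₃⟩
    obtain ⟨b₂, r₂⟩ := hμ D' χ (χ.comp q) q₃ rfl (e₃.trans (congrArg (RingHom.comp χ) hb))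
    have hb₂ : InZ J (χ.comp h₂) b₂ := (H.2 D' χ b₂ r₂.comp).2 ⟨q₃, e₃.trans (congrArg (RingHom.comp χ) hb), r₂⟩
    obtain ⟨q₂, e₂, rfl⟩ := hb₂
    exact ⟨q₂, by rw [e₂, hq'], r₃.split r₂ (hr.map χ)⟩
  · rintro ⟨q₂, e₂, r₂⟩
    have hc₂ : (aq J q₂).comp (algebraMap A B) = (χ.comp (aq J q)).comp c.tB := by
      rw [r₂.src, (hr.map χ).comp]
    obtain ⟨q₃, e₃, r₃⟩ := (H.2 D' χ (aq J q₂) hc₂).1 ⟨q₂, by rw [e₂, hq'], rfl⟩
    exact ⟨q₃, by rw [e₃, hb], r₂.trans r₃ (hr.map χ)⟩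

end Groth.Agent.Stk19b.GrpdSplit
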