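import Groth.Agent.Stk19b.GrpdSplit.Core

/-!
# The split groupoid over an affine etale neighbourhood
-/

set_option autoImplicit false
set_option backward.isDefEq.respectTransparency false

universe u

noncomputable section

open CategoryTheory AlgebraicGeometry TensorProduct

namespace Groth.Agent.Stk19b.GrpdSplit

variable {S : Scheme.{u}} {G : Grpd.GroupoidScheme S} {A B : Type u} [CommRing A] [CommRing B] [Algebra A B]
  (c : Arr G A B) (κ : Type u) [Field κ] [Algebra A κ]

/-- A split groupoid over an affine etale neighbourhood, on rings. -/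
structure RingSplit where
  W : Type u
  C : Type u
  [instW : CommRing W]
  [instC : CommRing C]
  [algW : Algebra A W]
  etaleW : Algebra.Etale A W
  ψ : W →ₐ[A] κ
  /-- source -/
  π : W →+* C
  /-- target -/
  v : W →+* C
  /-- the arrow -/
  a : B →+* C
  ε : C →+* W
  inv : C →+* C
  finite_π : π.Finite
  etale_a : a.Etale
  src : a.comp (algebraMap A B) = π.comp (algebraMap A W)
  tgt : a.comp c.tB = v.comp (algebraMap A W)
  ε_π : ε.comp π = RingHom.id W
  ε_v : ε.comp v = RingHom.id W
  ε_a : c.IsId (algebraMap A W) (ε.comp a)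
  inv_π : inv.comp π = v
  inv_v : inv.comp v = π
  inv_inv : inv.comp inv = RingHom.id C
  inv_a : c.pt (inv.comp a) = c.pt a ≫ G.i
  comp : ∀ (D : Type u) [CommRing D] (r' r : C →+* D), r'.comp π = r.comp v →
    ∃ r'' : C →+* D, r''.comp π = r.comp π ∧ r''.comp v = r'.comp v ∧
      c.Rel (r'.comp a) (r.comp a) (r''.comp a)
  ext : ∀ (D : Type u) [CommRing D] (f g : C →+* D), f.comp π = g.comp π → f.comp a = g.comp a → f = g
  points : ∀ (L : Type u) [Field L] (hs ht : W →+* L) (z : B →+* L),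
    RingHom.ker hs = RingHom.ker ψ.toRingHom → RingHom.ker ht = RingHom.ker ψ.toRingHom →
      z.comp (algebraMap A B) = hs.comp (algebraMap A W) → z.comp c.tB = ht.comp (algebraMap A W) →
        ∃ r : C →+* L, r.comp π = hs ∧ r.comp v = ht ∧ r.comp a = z

attribute [instance] RingSplit.instW RingSplit.instC RingSplit.algW

variable {c κ} {n : ℕ} (b : Fin n → B) [Module.Flat A B] [Algebra.FinitePresentation A B]

set_option maxHeartbeats 1600000 in
/-- **The split groupoid in an etale neighbourhood.** -/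
theorem exists_ringSplit (hC : Closed c κ) (hb : Function.Bijective (comb (A := A) b κ)) :
    Nonempty (RingSplit c κ) := by
  classical
  obtain ⟨P, _, _, _, J, ψ₀, hJ, hJid, hJfg, hJ₀, hinj, hcl⟩ := exists_etale_chart b hC.hκ hb
  obtain ⟨gW, hg, hgood⟩ := exists_good hC hb.2 hJ hJid hJfg hJ₀ hinj hcl
  let W := Localization.Away gW
  let loc : P →+* W := algebraMap P W
  haveI : Algebra.Etale A W := by
    haveI : Algebra.Etale P W := Algebra.Etale.of_isLocalizationAway gW
    exact Algebra.Etale.comp A P W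
  have hlu : IsUnit (loc gW) := IsLocalization.Away.algebraMap_isUnit gW
  obtain ⟨C, _, _, qr, bas, hqr, hcu, hce⟩ := exists_pushout b hJ loc
  let π : W →+* C := algebraMap W C
  have hWext : ∀ (D : Type u) [CommRing D] (f g : W →+* D), f.comp loc = g.comp loc → f = g :=
    fun D _ f g h => IsLocalization.ringHom_ext (Submonoid.powers gW) h
  have hWA : algebraMap A W = loc.comp (algebraMap A P) := IsScalarTower.algebraMap_eq A P W
  have hC' : IsUnit (hq J qr gW) := by rw [hqr]; exact hlu.map π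
  obtain ⟨-, hdC, htC⟩ := hgood C (hq J qr) hC'
  obtain ⟨h₂, H₂, hu₂, -⟩ := htC qr rfl
  let v : W →+* C := IsLocalization.Away.lift gW hu₂
  have hv : v.comp loc = h₂ := IsLocalization.Away.lift_comp gW hu₂
  let ψW : W →ₐ[A] κ := IsLocalization.liftAlgHom (S := W) (M := Submonoid.powers gW) (f := ψ₀) (by
    rintro ⟨_, i, rfl⟩
    simpa using (isUnit_iff_ne_zero.2 hg).pow i)
  have hψW : ψW.toRingHom.comp loc = ψ₀.toRingHom := RingHom.ext fun x => IsLocalization.lift_eq _ _
  obtain ⟨⟨qe₀, hqe₀, hide₀⟩, -, htW⟩ := hgood W loc hlu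
  obtain ⟨ε, hεπ, hεqr⟩ := hcu W (RingHom.id W) qe₀ (by rw [RingHom.id_comp]; exact hqe₀)
  have hεh : ε.comp h₂ = loc := by
    have h1 := H₂.map ε
    rw [hεqr] at h1
    exact (h1.unique hinj (Tr.of_isId hide₀)).trans hqe₀
  have hεv : ε.comp v = RingHom.id W := hWext _ _ _ (by rw [RingHom.comp_assoc, hv, hεh, RingHom.id_comp])
  let qe : Piece J →+* C := π.comp qe₀
  have hqe : hq J qe = hq J qr := by
    rw [hqr, ← hqe₀]; rfl
  have hide : c.IsId ((hq J qr).comp (algebraMap A P)) (aq J qe) := by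
    have := hide₀.map π
    rwa [← RingHom.comp_assoc, ← hqr] at this
  obtain ⟨y, hy⟩ := hdC qr qe rfl hqe
  obtain ⟨qi, hqi, hqia⟩ := (H₂.2 C (RingHom.id C) y hy.comp).2 ⟨qe, hqe, hy⟩
  rw [RingHom.id_comp] at hqi
  obtain ⟨inv, hinvπ, hinvqr⟩ := hcu C v qi (by rw [hv]; exact hqi)
  have hdivC : ∀ (D : Type u) [CommRing D] (h : P →+* D), IsUnit (h gW) →
      ∀ (D' : Type u) [CommRing D'] (χ : D →+* D') (q₁ q₂ : Piece J →+* D'),
        hq J q₁ = χ.comp h → hq J q₂ = χ.comp h → ∃ y, c.Rel y (aq J q₁) (aq J q₂) :=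
    fun D _ h hu D' _ χ q₁ q₂ e₁ e₂ => (hgood D' (χ.comp h) (hu.map χ)).2.1 q₁ q₂ e₁ e₂
  have hinvv : inv.comp v = π := by
    refine hWext _ _ _ ?_
    rw [RingHom.comp_assoc, hv, ← hqr]
    have h1 := H₂.map inv
    rw [hinvqr] at h1
    exact h1.unique hinj (Tr.comp (hdivC C _ hC') H₂ hqi hqe (hqia.symm ▸ hy)
      (hqe ▸ Tr.of_isId hide))
  have hinva : inv.comp (aq J qr) = y := by
    rw [← hqia, ← hinvqr]; rfl
  have hinvinv : inv.comp inv = RingHom.id C := by
    refine hce C _ _ ?_ (q_ext J ?_ ?_)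
    · show (inv.comp inv).comp π = (RingHom.id C).comp π
      rw [RingHom.comp_assoc, show inv.comp π = v from hinvπ, hinvv, RingHom.id_comp]
    · show inv.comp (hq J (inv.comp qr)) = hq J qr
      rw [hinvqr, hqi, ← hv, ← RingHom.comp_assoc, hinvv, hqr]
    · show (inv.comp inv).comp (aq J qr) = aq J qr
      rw [RingHom.comp_assoc, hinva]
      have h1 := hy.map inv
      rw [hinva] at h1
      have hx : inv.comp ((hq J qr).comp (algebraMap A P)) = (aq J qr).comp c.tB := by
        rw [← aq_alg, ← RingHom.comp_assoc, hinva, hy.comp]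
      exact h1.left_unique (hy.inv hide (hide.map inv) hx.symm)
  have hinvi : c.pt y = c.pt (aq J qr) ≫ G.i := by
    obtain ⟨_, e⟩ := hy.pt_eq
    rw [← e]
    refine (GrpdLib.cmp_congr G ?_ rfl _ ?_).trans (G.e_comp (c.pt (aq J qr) ≫ G.i))
    · rw [hide, ← aq_alg, ← c.pt_s, ← Category.assoc, GrpdLib.i_comp_t]
    · simp only [Category.assoc, G.e_s, Category.comp_id]
  have hAC : (hq J qr).comp (algebraMap A P) = π.comp (algebraMap A W) := by
    rw [hqr, RingHom.comp_assoc, hWA]
  haveI : Module.Finite W C := Module.Finite.of_basis bas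
  refine ⟨{
    W := W, C := C, etaleW := inferInstance, ψ := ψW, π := π, v := v, a := aq J qr, ε := ε, inv := inv
    finite_π := RingHom.finite_algebraMap.2 inferInstance
    etale_a := ?_
    src := (aq_alg J qr).trans hAC
    tgt := ?_
    ε_π := hεπ
    ε_v := hεv
    ε_a := ?_
    inv_π := hinvπ
    inv_v := hinvv
    inv_inv := hinvinv
    inv_a := by rw [hinva, hinvi]
    comp := ?_
    ext := fun D _ f g h₁ h₃ => hce D f g h₁ (q_ext J ?_ h₃)
    points := ?_ }⟩
  · let E := Localization.Away (algebraMap P (Piece J) gW)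
    let l : Piece J →+* E := algebraMap (Piece J) E
    have hlE : IsUnit (l (algebraMap P (Piece J) gW)) := IsLocalization.Away.algebraMap_isUnit _
    let χE : W →+* E := IsLocalization.Away.lift (g := l.comp (algebraMap P (Piece J))) gW hlE
    have hχE : χE.comp loc = l.comp (algebraMap P (Piece J)) := IsLocalization.Away.lift_comp gW _
    obtain ⟨r, hrπ, hrq⟩ := hcu E χE l hχE.symm
    let s : E →+* C := IsLocalization.Away.lift (g := qr) (algebraMap P (Piece J) gW) hC'
    have hs : s.comp l = qr := IsLocalization.Away.lift_comp (g := qr) _ hC'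
    have h1 : r.comp s = RingHom.id E :=
      IsLocalization.ringHom_ext (Submonoid.powers (algebraMap P (Piece J) gW))
        (by rw [RingHom.comp_assoc, show s.comp (algebraMap (Piece J) E) = qr from hs, hrq, RingHom.id_comp])
    have h2 : s.comp r = RingHom.id C := hce C _ _ (by
        show (s.comp r).comp π = _
        rw [RingHom.comp_assoc, show r.comp π = χE from hrπ, RingHom.id_comp]
        refine hWext _ _ _ ?_
        rw [RingHom.comp_assoc, hχE, ← RingHom.comp_assoc, hs]
        exact hqr)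
      (by rw [RingHom.comp_assoc, hrq, hs, RingHom.id_comp])
    let e : E ≃+* C := RingEquiv.ofRingHom s r h2 h1
    have hqre : qr.Etale := by
      rw [← hs]
      exact RingHom.Etale.respectsIso.1 l e (RingHom.etale_algebraMap.2 (Algebra.Etale.of_isLocalizationAway (algebraMap P (Piece J) gW)))
    exact RingHom.Etale.stableUnderComposition _ _ (etale_jB hJid hJfg) hqre
  · rw [hWA, ← RingHom.comp_assoc, hv]
    exact H₂.1.symm
  · have h := hide₀
    rw [← hWA] at h
    rwa [← RingHom.comp_assoc, hεqr]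
  · intro D _ r' r hrr
    have hk : hq J (r'.comp qr) = r.comp h₂ := by
      show r'.comp (hq J qr) = _
      rw [hqr, ← RingHom.comp_assoc, hrr, RingHom.comp_assoc, hv]
    obtain ⟨qb, hqb, hr⟩ := ((H₂.map r).2 D (RingHom.id D) (aq J (r'.comp qr)) (by
      rw [aq_alg, hk, RingHom.comp_assoc, H₂.1]; rfl)).1 ⟨r'.comp qr, hk, rfl⟩
    rw [RingHom.id_comp] at hqb
    have hqb' : hq J qb = (r.comp π).comp loc := by
      rw [hqb]
      show r.comp (hq J qr) = _
      rw [hqr, RingHom.comp_assoc]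
    obtain ⟨r'', hr''π, hr''q⟩ := hcu D (r.comp π) qb hqb'
    refine ⟨r'', hr''π, ?_, ?_⟩
    · refine hWext _ _ _ ?_
      rw [RingHom.comp_assoc, RingHom.comp_assoc, hv]
      have h3 := H₂.map r''
      rw [hr''q] at h3
      exact (Tr.comp (hdivC D _ (hC'.map r)) (H₂.map r) hk hqb hr h3).unique hinj (H₂.map r')
    · rw [show r''.comp (aq J qr) = aq J qb by rw [← hr''q]; rfl]
      exact hr
  · show (f.comp qr).comp _ = (g.comp qr).comp _
    rw [RingHom.comp_assoc, RingHom.comp_assoc, show qr.comp (algebraMap P (Piece J)) = _ from hqr,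
      ← RingHom.comp_assoc, show f.comp (algebraMap W C) = _ from h₁, RingHom.comp_assoc]
  · intro L _ hs ht z hks hkt hzs hzt
    have hk : RingHom.ker (hs.comp loc) = RingHom.ker ψ₀.toRingHom := by
      rw [← RingHom.comap_ker, hks, RingHom.comap_ker, hψW]
    obtain ⟨q, hq₁, hq₂⟩ := inZ_of_ker hC hJ₀ (a := z) hk (by rw [hzs, hWA, RingHom.comp_assoc])
    obtain ⟨r, hrπ, hrq⟩ := hcu L hs q hq₁
    refine ⟨r, hrπ, hWext _ _ _ ?_, by rw [← hq₂, ← hrq]; rfl⟩
    have hul : IsUnit ((hs.comp loc) gW) := hlu.map hs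
    obtain ⟨k, Hk, -, hkk⟩ := (hgood L _ hul).2.2 q hq₁
    have h3 := H₂.map r
    rw [hrq] at h3
    rw [RingHom.comp_assoc, hv, h3.unique hinj Hk]
    have hkk' : RingHom.ker k = RingHom.ker ψ₀.toRingHom := by
      have := hkk L (RingHom.id L) (by rw [RingHom.id_comp]; exact hk)
      rwa [RingHom.id_comp] at this
    refine hom_eq_of_ker hC.hκ _ _ hkk' (by rw [← RingHom.comap_ker, hkt, RingHom.comap_ker, hψW]) ?_
    rw [Hk.1, hq₂, hzt, hWA, RingHom.comp_assoc]

end Groth.Agent.Stk19b.GrpdSplit
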