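import Groth.Agent.Stk19b.GrpdSplit.RingSplit
import Groth.Agent.GrpdLib.PullbackGrpd
import Groth.Agent.FlatMor12.ElemNbhd
import Groth.Agent.FlatMorDVR.FiniteSetAffine
import Groth.Agent.FEtLib.EqLocus
import Groth.Prelude.Def_Dual3
import Mathlib.AlgebraicGeometry.Morphisms.QuasiFinite
import Mathlib.AlgebraicGeometry.ZariskisMainTheorem
import Mathlib.RingTheory.QuasiFinite.Basic

/-!
# Splitting a groupoid in an etale neighbourhood
-/

set_option autoImplicit false
set_option linter.style.haveILetI false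
set_option backward.isDefEq.respectTransparency false

universe u

noncomputable section

open CategoryTheory CategoryTheory.Limits AlgebraicGeometry TensorProduct

namespace Groth.Agent.Stk19b.GrpdSplit

open Groth.Agent.GrpdLib (cmp cmp_congr cmp_s cmp_t i_comp_t pbGrpd pbMk pbρ pbT pbS)

/-- A basis of a finite dimensional base change made of elements of the algebra. -/
theorem exists_comb_bijective (A B κ : Type u) [CommRing A] [CommRing B] [Algebra A B] [Field κ] [Algebra A κ]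
    [Module.Finite κ (κ ⊗[A] B)] :
    ∃ (n : ℕ) (b : Fin n → B), Function.Bijective (comb (A := A) b κ) := by
  classical
  let s : Set (κ ⊗[A] B) := Set.range fun y : B => (1 : κ) ⊗ₜ[A] y
  obtain ⟨t, hts, hspan, hli⟩ := exists_linearIndependent κ s
  have htop : Submodule.span κ t = ⊤ := by
    rw [hspan, eq_top_iff]
    intro z _
    induction z using TensorProduct.induction_on with
    | zero => exact Submodule.zero_mem _
    | tmul x y =>
      rw [tmul_eq_algebraMap_mul x y]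
      exact Submodule.smul_mem _ _ (Submodule.subset_span ⟨y, rfl⟩)
    | add a c ha hc => exact Submodule.add_mem _ (ha trivial) (hc trivial)
  haveI : Finite t := hli.setFinite.to_subtype
  haveI := Fintype.ofFinite t
  let e := (Fintype.equivFin t).symm
  choose b hb using fun i => hts (e i).2
  refine ⟨Fintype.card t, b, ?_⟩
  let bas : Module.Basis t κ (κ ⊗[A] B) := Module.Basis.mk hli (by rw [Subtype.range_coe_subtype, Set.setOf_mem_eq, htop])
  have h : ∀ v, comb (A := A) b κ v = (bas.reindex e.symm).equivFun.symm v := fun v => by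
    rw [Module.Basis.equivFun_symm_apply]
    show ∑ j, v j • ((1 : κ) ⊗ₜ[A] b j) = _
    refine Finset.sum_congr rfl fun j _ => ?_
    rw [Module.Basis.reindex_apply, Equiv.symm_symm, Module.Basis.mk_apply, ← hb j]
  exact (funext h : ⇑(comb (A := A) b κ) = _) ▸ (bas.reindex e.symm).equivFun.symm.bijective

variable {S : Scheme.{u}} (G : Grpd.GroupoidScheme S)

theorem isPullback_pbρ {U' : Scheme.{u}} (f : U' ⟶ G.U)
    (hp : (pbGrpd G f).pU ≫ 𝟙 S = f ≫ G.pU) :
    IsPullback (pbρ G f) (pbGrpd G f).j G.j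
      (pullback.map (pbGrpd G f).pU (pbGrpd G f).pU G.pU G.pU f f (𝟙 S) hp hp) := by
  have hj₁ : (pbGrpd G f).j ≫ pullback.fst _ _ = pbT G f := pullback.lift_fst _ _ _
  have hj₂ : (pbGrpd G f).j ≫ pullback.snd _ _ = pbS G f := pullback.lift_snd _ _ _
  have hg₁ : G.j ≫ pullback.fst _ _ = G.t := pullback.lift_fst _ _ _
  have hg₂ : G.j ≫ pullback.snd _ _ = G.s := pullback.lift_snd _ _ _
  have m₁ : pullback.map (pbGrpd G f).pU (pbGrpd G f).pU G.pU G.pU f f (𝟙 S) hp hp ≫ pullback.fst _ _ =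
      pullback.fst _ _ ≫ f := pullback.lift_fst _ _ _
  have m₂ : pullback.map (pbGrpd G f).pU (pbGrpd G f).pU G.pU G.pU f f (𝟙 S) hp hp ≫ pullback.snd _ _ =
      pullback.snd _ _ ≫ f := pullback.lift_snd _ _ _
  have w : pbρ G f ≫ G.j = (pbGrpd G f).j ≫ pullback.map _ _ G.pU G.pU f f (𝟙 S) hp hp := by
    apply pullback.hom_ext
    · exact (Category.assoc _ _ _).trans ((congrArg (pbρ G f ≫ ·) hg₁).trans ((GrpdLib.pbρ_t G f).trans
        ((congrArg (· ≫ f) hj₁).symm.trans ((Category.assoc _ _ _).trans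
          ((congrArg ((pbGrpd G f).j ≫ ·) m₁).symm.trans (Category.assoc _ _ _).symm)))))
    · exact (Category.assoc _ _ _).trans ((congrArg (pbρ G f ≫ ·) hg₂).trans ((GrpdLib.pbρ_s G f).trans
        ((congrArg (· ≫ f) hj₂).symm.trans ((Category.assoc _ _ _).trans
          ((congrArg ((pbGrpd G f).j ≫ ·) m₂).symm.trans (Category.assoc _ _ _).symm)))))
  have c1 : ∀ t : PullbackCone G.j (pullback.map (pbGrpd G f).pU (pbGrpd G f).pU G.pU G.pU f f (𝟙 S) hp hp),
      t.fst ≫ G.t = (t.snd ≫ pullback.fst _ _) ≫ f := fun t => by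
    have := congrArg (· ≫ pullback.fst _ _) t.condition
    simp only [Category.assoc] at this
    rw [hg₁, m₁] at this
    exact this.trans (Category.assoc _ _ _).symm
  have c2 : ∀ t : PullbackCone G.j (pullback.map (pbGrpd G f).pU (pbGrpd G f).pU G.pU G.pU f f (𝟙 S) hp hp),
      t.fst ≫ G.s = (t.snd ≫ pullback.snd _ _) ≫ f := fun t => by
    have := congrArg (· ≫ pullback.snd _ _) t.condition
    simp only [Category.assoc] at this
    rw [hg₂, m₂] at this
    exact this.trans (Category.assoc _ _ _).symm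
  refine ⟨⟨w⟩, ⟨PullbackCone.IsLimit.mk _ (fun t => pbMk G f t.fst _ _ (c1 t) (c2 t))
    (fun t => GrpdLib.pbMk_ρ G f _ _ _ _ _) (fun t => ?_) fun t m h₁ h₂ => ?_⟩⟩
  · apply pullback.hom_ext
    · rw [Category.assoc, hj₁]; exact GrpdLib.pbMk_t G f _ _ _ _ _
    · rw [Category.assoc, hj₂]; exact GrpdLib.pbMk_s G f _ _ _ _ _
  · refine GrpdLib.pb_ext G f (h₁.trans (GrpdLib.pbMk_ρ G f _ _ _ _ _).symm) ?_ ?_
    · rw [GrpdLib.pbMk_t, ← h₂, Category.assoc, hj₁]
    · rw [GrpdLib.pbMk_s, ← h₂, Category.assoc, hj₂]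

/-- An affine open neighbourhood of finitely many quasi-finite points meeting the fibre only there. -/
theorem exists_affine_fibre {X Y : Scheme.{u}} (f : X ⟶ Y) [IsAffine Y] [IsSeparated f] [LocallyOfFiniteType f]
    (u : Y) (F : Set X) (hF : F.Finite) (hFu : ∀ x ∈ F, f x = u) (hqf : ∀ x ∈ F, Dual3.QuasiFiniteAt f x) :
    ∃ V : X.Opens, IsAffineOpen V ∧ F ⊆ V ∧ (∀ x ∈ V, f x = u → x ∈ F) ∧ LocallyQuasiFinite (V.ι ≫ f) := by
  classical
  have hiso : ∀ x ∈ F, ∃ O : X.Opens, x ∈ O ∧ ∀ y ∈ O, f y = u → y = x := by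
    intro x hx
    obtain ⟨O, hO, hOx⟩ : ∃ O : Set X, IsOpen O ∧ (f.fiberι (f x)) ⁻¹' O = {f.asFiber x} :=
      (f.fiberι (f x)).isEmbedding.isInducing.isOpen_iff.1 (hqf x hx)
    refine ⟨⟨O, hO⟩, ?_, fun y hy hyu => ?_⟩
    · have : f.asFiber x ∈ (f.fiberι (f x)) ⁻¹' O := hOx ▸ rfl
      rwa [Set.mem_preimage, Scheme.Hom.fiberι_asFiber] at this
    · have hy' : y ∈ Set.range (f.fiberι (f x)) := by
        rw [Scheme.Hom.range_fiberι]; exact hyu.trans (hFu x hx).symm
      obtain ⟨z, rfl⟩ := hy'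
      have hz : z ∈ ({f.asFiber x} : Set _) := hOx ▸ hy
      rw [Set.mem_singleton_iff.1 hz, Scheme.Hom.fiberι_asFiber]
  choose O hxO hOu using hiso
  let O' : X.Opens := ⨆ x : F, O x x.2
  let V₀ : X.Opens := O' ⊓ f.quasiFiniteLocus
  have hFV : F ⊆ V₀ := fun x hx =>
    ⟨TopologicalSpace.Opens.mem_iSup.2 ⟨⟨x, hx⟩, hxO x hx⟩,
      Scheme.Hom.quasiFiniteAt_iff_isOpen_singleton_asFiber.2 (hqf x hx)⟩
  haveI : LocallyQuasiFinite (V₀.ι ≫ f) := by
    rw [← Scheme.Hom.quasiFiniteLocus_eq_top_iff, Scheme.Hom.quasiFiniteLocus_comp, eq_top_iff]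
    intro z _
    exact z.2.2
  obtain ⟨V, hV, hVF⟩ := FlatMorDVR.exists_affine_of_finite_lqf (V₀.ι ≫ f)
    ((hF.preimage V₀.ι.isOpenEmbedding.injective.injOn).toFinset)
  have hle : V₀.ι ''ᵁ V ≤ V₀ := fun z ⟨w, _, hw⟩ => hw ▸ w.2
  refine ⟨V₀.ι ''ᵁ V, hV.image_of_isOpenImmersion _, fun x hx => ?_, fun x hx hxu => ?_, ?_⟩
  · exact ⟨⟨x, hFV hx⟩, hVF _ (by simpa using hx), rfl⟩
  · obtain ⟨y, hy⟩ := TopologicalSpace.Opens.mem_iSup.1 (hle hx).1
    rw [hOu y y.2 x hy hxu]
    exact y.2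
  · rw [← X.homOfLE_ι hle, Category.assoc]
    infer_instance

variable [IsAffine G.U] [Flat G.s] [LocallyOfFinitePresentation G.s]

set_option maxHeartbeats 1600000 in
/-- **Splitting in an etale neighbourhood**, for an affine piece of the arrows. -/
theorem exists_split (u : G.U) (R0 : G.R.Opens) (hR0 : IsAffineOpen R0) [LocallyQuasiFinite (R0.ι ≫ G.s)]
    (hunit : G.e u ∈ R0) (htgt : ∀ r ∈ R0, G.s r = u → G.t r = u)
    (hdiv : ∀ (L : Type u) [Field L] (α β : Spec (CommRingCat.of L) ⟶ G.R)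
      (h : β ≫ G.s = (α ≫ G.i) ≫ G.t), (∀ x, α x ∈ R0) → (∀ x, β x ∈ R0) → (∀ x, G.s (α x) = u) →
        ∀ x, cmp G β (α ≫ G.i) h x ∈ R0) :
    ∃ (G' : Grpd.GroupoidScheme S) (φ : Grpd.GroupoidScheme.Hom G' G) (u' : ↥G'.U),
      IsAffine G'.U ∧ Etale φ.fU ∧ φ.fU u' = u ∧ IsIso (φ.fU.residueFieldMap u') ∧
      IsPullback φ.fR G'.j G.j
        (pullback.map G'.pU G'.pU G.pU G.pU φ.fU φ.fU (𝟙 S)
          ((Category.comp_id _).trans φ.fU_over.symm) ((Category.comp_id _).trans φ.fU_over.symm)) ∧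
      ∃ (P : Scheme.{u}) (ιP : P ⟶ G'.R), IsOpenImmersion ιP ∧
        (∃ eP : G'.U ⟶ P, eP ≫ ιP = G'.e) ∧ (∃ iP : P ⟶ P, iP ≫ ιP = ιP ≫ G'.i) ∧
        (∃ cP : pullback (ιP ≫ G'.s) (ιP ≫ G'.t) ⟶ P,
          cP ≫ ιP = pullback.map (ιP ≫ G'.s) (ιP ≫ G'.t) G'.s G'.t ιP ιP (𝟙 G'.U)
            (Category.comp_id _) (Category.comp_id _) ≫ G'.c) ∧
        IsFinite (ιP ≫ G'.s) ∧ IsFinite (ιP ≫ G'.t) ∧
        ∀ r' : ↥G'.R, G'.s r' = u' → G'.t r' = u' → φ.fR r' ∈ R0 → ∃ p : ↥P, ιP p = r' := by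
  classical
  let A : Type u := Γ(G.U, ⊤)
  let B : Type u := Γ(G.R, R0)
  let uU : Spec (CommRingCat.of A) ≅ G.U := G.U.isoSpec.symm
  let ι0 : Spec (CommRingCat.of B) ⟶ G.R := hR0.fromSpec
  let sB : CommRingCat.of A ⟶ CommRingCat.of B := Spec.preimage (ι0 ≫ G.s ≫ uU.inv)
  let tBc : CommRingCat.of A ⟶ CommRingCat.of B := Spec.preimage (ι0 ≫ G.t ≫ uU.inv)
  letI : Algebra A B := sB.hom.toAlgebra
  have hsB : CommRingCat.ofHom (algebraMap A B) = sB := rfl
  let c : Arr G A B :=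
    { uU := uU, ι0 := ι0, isOpen := inferInstanceAs (IsOpenImmersion hR0.fromSpec), tB := tBc.hom
      hs := by rw [hsB, Spec.map_preimage]; simp
      ht := by rw [CommRingCat.ofHom_hom, Spec.map_preimage]; simp }
  haveI hopen : IsOpenImmersion ι0 := c.isOpen
  have hs' : Spec.map sB = ι0 ≫ G.s ≫ uU.inv := Spec.map_preimage _
  haveI : Module.Flat A B := by
    have h1 : Flat (Spec.map sB) := by rw [hs']; infer_instance
    exact RingHom.flat_algebraMap_iff.1 ((HasRingHomProperty.Spec_iff (P := @Flat)).1 h1)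
  haveI : Algebra.FinitePresentation A B := by
    have h1 : LocallyOfFinitePresentation (Spec.map sB) := by rw [hs']; infer_instance
    exact RingHom.finitePresentation_algebraMap.1
      ((HasRingHomProperty.Spec_iff (P := @LocallyOfFinitePresentation)).1 h1)
  haveI : Algebra.QuasiFinite A B := by
    have e : hR0.fromSpec = hR0.isoSpec.inv ≫ R0.ι := hR0.isoSpec_inv_ι.symm
    have h1 : LocallyQuasiFinite (Spec.map sB) := by
      rw [hs', show ι0 = hR0.isoSpec.inv ≫ R0.ι from e, Category.assoc, ← Category.assoc R0.ι]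
      infer_instance
    exact RingHom.quasiFinite_algebraMap.1 ((HasRingHomProperty.Spec_iff (P := @LocallyQuasiFinite)).1 h1)
  let p : Spec (CommRingCat.of A) := uU.inv u
  have hpu : uU.hom p = u := by rw [← Scheme.Hom.comp_apply, Iso.inv_hom_id]; rfl
  let κ : Type u := p.asIdeal.ResidueField
  haveI : Module.Finite κ (κ ⊗[A] B) := Algebra.QuasiFinite.finite_fiber p.asIdeal
  obtain ⟨n, b, hb⟩ := exists_comb_bijective A B κ
  have hkerκ : RingHom.ker (algebraMap A κ) = p.asIdeal := Ideal.ker_algebraMap_residueField p.asIdeal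
  -- points
  have hobj : ∀ {L : Type u} [Field L] (x : A →+* L) (z : Spec (CommRingCat.of L)),
      c.obj x z = u ↔ RingHom.ker x = p.asIdeal := by
    intro L _ x z
    obtain rfl : z = (⟨⊥, Ideal.isPrime_bot⟩ : PrimeSpectrum L) := Subsingleton.elim _ _
    show uU.hom (Spec.map (CommRingCat.ofHom x) _) = u ↔ _
    rw [← hpu, uU.hom.isOpenEmbedding.injective.eq_iff]
    constructor
    · intro h
      rw [← h, RingHom.ker_eq_comap_bot]
      rfl
    · intro h
      exact PrimeSpectrum.ext ((RingHom.ker_eq_comap_bot x).symm.trans h)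
  have hmem : ∀ {L : Type u} [Field L] (a : B →+* L) (z : Spec (CommRingCat.of L)), c.pt a z ∈ R0 := by
    intro L _ a z
    have : c.pt a z ∈ Set.range hR0.fromSpec := ⟨Spec.map (CommRingCat.ofHom a) z, rfl⟩
    rwa [hR0.range_fromSpec] at this
  have hsx : ∀ {L : Type u} [Field L] (a : B →+* L) (z : Spec (CommRingCat.of L)),
      G.s (c.pt a z) = c.obj (a.comp (algebraMap A B)) z := fun a z => by
    rw [← Scheme.Hom.comp_apply, c.pt_s]
  have hC : Closed c κ := by
    refine ⟨fun x => ?_, fun L _ _ h => ?_, fun L _ a h => ?_, fun L _ a z h hz => ?_, ?_⟩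
    · obtain ⟨a, s, hs, rfl⟩ := IsFractionRing.div_surjective (A := A ⧸ p.asIdeal) (K := κ) x
      obtain ⟨a, rfl⟩ := Ideal.Quotient.mk_surjective a
      obtain ⟨s, rfl⟩ := Ideal.Quotient.mk_surjective s
      have hs0 : algebraMap A κ s ≠ 0 := fun h0 => nonZeroDivisors.ne_zero hs
        (Ideal.Quotient.eq_zero_iff_mem.2 (hkerκ ▸ RingHom.mem_ker.2 h0))
      exact ⟨a, s, isUnit_iff_ne_zero.2 hs0, div_mul_cancel₀ _ hs0⟩
    · rw [hkerκ] at h
      exact ⟨Ideal.ResidueField.liftₐ p.asIdeal (Algebra.ofId A L) h.ge (fun x hx => isUnit_iff_ne_zero.2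
        fun h0 => hx (h ▸ RingHom.mem_ker.2 h0))⟩
    · rw [hkerκ] at h ⊢
      have z0 : Spec (CommRingCat.of L) := (⟨⊥, Ideal.isPrime_bot⟩ : PrimeSpectrum L)
      rw [← hobj _ z0, ← c.pt_t, Scheme.Hom.comp_apply]
      exact htgt _ (hmem a z0) (by rw [hsx]; exact (hobj _ z0).2 h)
    · rw [hkerκ] at h
      have hcond : c.pt z ≫ G.s = (c.pt a ≫ G.i) ≫ G.t := by rw [i_comp_t, c.pt_s, c.pt_s, hz]
      have hr : Set.range (cmp G (c.pt z) (c.pt a ≫ G.i) hcond) ⊆ Set.range hR0.fromSpec := by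
        rw [hR0.range_fromSpec]
        rintro _ ⟨x, rfl⟩
        exact hdiv L (c.pt a) (c.pt z) hcond (hmem a) (hmem z) (fun y => by rw [hsx]; exact (hobj _ y).2 h) x
      let l := IsOpenImmersion.lift hR0.fromSpec (cmp G (c.pt z) (c.pt a ≫ G.i) hcond) hr
      refine ⟨(Spec.preimage l).hom, Arr.rel_of_pt_eq (h' := hcond) ?_⟩
      show _ = Spec.map (CommRingCat.ofHom (Spec.preimage l).hom) ≫ hR0.fromSpec
      rw [CommRingCat.ofHom_hom, Spec.map_preimage, IsOpenImmersion.lift_fac]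
    · have : (⟨RingHom.ker (algebraMap A κ), RingHom.ker_isPrime _⟩ : PrimeSpectrum A) = p := PrimeSpectrum.ext hkerκ
      rw [this]
      have h2 : G.e (c.uU.hom p) ∈ Set.range hR0.fromSpec := by
        rw [hR0.range_fromSpec, show c.uU.hom p = u from hpu]; exact hunit
      exact h2
  obtain ⟨D⟩ := exists_ringSplit b hC hb
  haveI := D.etaleW
  -- the restricted groupoid
  let f : Spec (CommRingCat.of D.W) ⟶ G.U := c.obj (algebraMap A D.W)
  have hfet : Etale f := by
    have : Etale (Spec.map (CommRingCat.ofHom (algebraMap A D.W))) :=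
      (HasRingHomProperty.Spec_iff (P := @Etale)).2 (RingHom.etale_algebraMap.2 inferInstance)
    show Etale (Spec.map _ ≫ uU.hom)
    infer_instance
  let u' : Spec (CommRingCat.of D.W) := ⟨RingHom.ker D.ψ.toRingHom, RingHom.ker_isPrime _⟩
  have hu' : Spec.map (CommRingCat.ofHom (algebraMap A D.W)) u' = p := by
    refine PrimeSpectrum.ext ?_
    show Ideal.comap (algebraMap A D.W) (RingHom.ker D.ψ.toRingHom) = p.asIdeal
    refine Eq.trans ?_ hkerκ
    rw [RingHom.comap_ker]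
    exact congrArg RingHom.ker D.ψ.comp_algebraMap
  have hres : IsIso (f.residueFieldMap u') := by
    haveI := hfet
    haveI : Etale (Spec.map (CommRingCat.ofHom (algebraMap A D.W))) :=
      (HasRingHomProperty.Spec_iff (P := @Etale)).2 (RingHom.etale_algebraMap.2 inferInstance)
    let σ : Spec ((Spec (CommRingCat.of A)).residueField p) ⟶ Spec (CommRingCat.of D.W) :=
      Spec.map (Scheme.Spec.residueFieldIso (CommRingCat.of A) p).inv ≫ Spec.map (CommRingCat.ofHom D.ψ.toRingHom)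
    have hσ : σ ≫ Spec.map (CommRingCat.ofHom (algebraMap A D.W)) =
        (Spec (CommRingCat.of A)).fromSpecResidueField p := by
      rw [Category.assoc, ← Spec.map_comp, ← CommRingCat.ofHom_comp,
        show D.ψ.toRingHom.comp (algebraMap A D.W) = algebraMap A κ from D.ψ.comp_algebraMap]
      exact Scheme.Spec.map_residueFieldIso_inv_eq_fromSpecResidueField _ p
    have hnb := FlatMor12.isEtaleNbhd_of_section (Spec.map (CommRingCat.ofHom (algebraMap A D.W))) p σ hσ
    have hσu : σ (IsLocalRing.closedPoint _) = u' := by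
      refine PrimeSpectrum.ext ?_
      rw [Scheme.Hom.comp_apply]
      show Ideal.comap D.ψ.toRingHom _ = RingHom.ker D.ψ.toRingHom
      rw [RingHom.ker_eq_comap_bot]
      congr 1
      exact ((Ideal.eq_bot_or_top _).resolve_right ((Spec.map (Scheme.Spec.residueFieldIso (CommRingCat.of A) p).inv)
        (IsLocalRing.closedPoint _)).isPrime.ne_top)
    rw [hσu] at hnb
    haveI : IsIso ((Spec.map (CommRingCat.ofHom (algebraMap A D.W))).residueFieldMap u') :=
      (ConcreteCategory.isIso_iff_bijective _).2 hnb.residue_bijective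
    rw [show f.residueFieldMap u' = uU.hom.residueFieldMap _ ≫
      (Spec.map (CommRingCat.ofHom (algebraMap A D.W))).residueFieldMap u' from Scheme.residueFieldMap_comp _ _ _]
    infer_instance
  let G' := pbGrpd G f
  let φ : Grpd.GroupoidScheme.Hom G' G :=
    { fU := f, fR := pbρ G f, fU_over := rfl, comm_s := GrpdLib.pbρ_s G f, comm_t := GrpdLib.pbρ_t G f
      comm_c := fun α β h => GrpdLib.pbC_ρ G f α β h }
  let P := Spec (CommRingCat.of D.C)
  let sP : P ⟶ Spec (CommRingCat.of D.W) := Spec.map (CommRingCat.ofHom D.π)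
  let tP : P ⟶ Spec (CommRingCat.of D.W) := Spec.map (CommRingCat.ofHom D.v)
  have htP : c.pt D.a ≫ G.t = tP ≫ f := by rw [c.pt_t, D.tgt]; exact (c.obj_map _ _).symm
  have hsP : c.pt D.a ≫ G.s = sP ≫ f := by rw [c.pt_s, D.src]; exact (c.obj_map _ _).symm
  let ιP : P ⟶ G'.R := pbMk G f (c.pt D.a) tP sP htP hsP
  have hρ : ιP ≫ pbρ G f = c.pt D.a := GrpdLib.pbMk_ρ G f _ _ _ _ _
  have hιs : ιP ≫ G'.s = sP := GrpdLib.pbMk_s G f _ _ _ _ _
  have hιt : ιP ≫ G'.t = tP := GrpdLib.pbMk_t G f _ _ _ _ _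
  haveI : Mono ιP := by
    refine ⟨fun {T} a₁ a₂ h => ?_⟩
    refine T.affineCover.hom_ext _ _ fun j => ?_
    obtain ⟨g₁, e₁⟩ : ∃ g, Spec.map g = T.affineCover.f j ≫ a₁ := ⟨Spec.preimage _, Spec.map_preimage _⟩
    obtain ⟨g₂, e₂⟩ : ∃ g, Spec.map g = T.affineCover.f j ≫ a₂ := ⟨Spec.preimage _, Spec.map_preimage _⟩
    have h' : Spec.map g₁ ≫ ιP = Spec.map g₂ ≫ ιP := by rw [e₁, e₂, Category.assoc, h, Category.assoc]
    have hs'' : Spec.map g₁ ≫ sP = Spec.map g₂ ≫ sP := by rw [← hιs, ← Category.assoc, h', Category.assoc]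
    have ha : Spec.map g₁ ≫ c.pt D.a = Spec.map g₂ ≫ c.pt D.a := by rw [← hρ, ← Category.assoc, h', Category.assoc]
    rw [← e₁, ← e₂]
    congr 1
    refine CommRingCat.hom_ext (D.ext _ g₁.hom g₂.hom ?_ (c.pt_inj ?_))
    · rw [← Spec.map_comp, ← Spec.map_comp] at hs''
      exact congrArg CommRingCat.Hom.hom (Spec.map_injective hs'')
    · rw [← c.pt_map, ← c.pt_map]
      exact ha
  haveI : Etale ιP := by
    haveI : Etale (pbρ G f) := inferInstance
    haveI : Etale (ιP ≫ pbρ G f) := by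
      rw [hρ]
      haveI : Etale (Spec.map (CommRingCat.ofHom D.a)) := (HasRingHomProperty.Spec_iff (P := @Etale)).2 D.etale_a
      show Etale (Spec.map _ ≫ ι0)
      infer_instance
    exact Etale.of_comp ιP (pbρ G f)
  have hopenP : IsOpenImmersion ιP := FEtLib.isOpenImmersion_of_etale_universallyInjective ιP
  have hi : Spec.map (CommRingCat.ofHom D.inv) ≫ ιP = ιP ≫ G'.i := by
    refine GrpdLib.pb_ext G f ?_ ?_ ?_
    · rw [Category.assoc, hρ, c.pt_map, D.inv_a, Category.assoc]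
      show _ = ιP ≫ GrpdLib.pbI G f ≫ pbρ G f
      rw [GrpdLib.pbI, GrpdLib.pbMk_ρ, ← Category.assoc, hρ]
    · rw [Category.assoc, show ιP ≫ pbT G f = tP from hιt, Category.assoc]
      show _ = ιP ≫ GrpdLib.pbI G f ≫ pbT G f
      rw [GrpdLib.pbI, GrpdLib.pbMk_t, show ιP ≫ pbS G f = sP from hιs, ← Spec.map_comp, ← CommRingCat.ofHom_comp,
        D.inv_v]
    · rw [Category.assoc, show ιP ≫ pbS G f = sP from hιs, Category.assoc]
      show _ = ιP ≫ GrpdLib.pbI G f ≫ pbS G f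
      rw [GrpdLib.pbI, GrpdLib.pbMk_s, show ιP ≫ pbT G f = tP from hιt, ← Spec.map_comp, ← CommRingCat.ofHom_comp,
        D.inv_π]
  refine ⟨G', φ, u', inferInstanceAs (IsAffine (Spec (CommRingCat.of D.W))), hfet, ?_, hres,
    isPullback_pbρ G f (Category.comp_id _), P, ιP, hopenP, ⟨Spec.map (CommRingCat.ofHom D.ε), ?_⟩, ⟨_, hi⟩, ?_, ?_,
    ?_, ?_⟩
  · show uU.hom (Spec.map (CommRingCat.ofHom (algebraMap A D.W)) u') = u
    rw [hu', hpu]
  · refine GrpdLib.pb_ext G f ?_ ?_ ?_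
    · rw [Category.assoc, hρ, c.pt_map, show c.pt (D.ε.comp D.a) = f ≫ G.e from D.ε_a]
      show _ = GrpdLib.pbE G f ≫ pbρ G f
      rw [GrpdLib.pbE, GrpdLib.pbMk_ρ]
    · rw [Category.assoc, show ιP ≫ pbT G f = tP from hιt, ← Spec.map_comp, ← CommRingCat.ofHom_comp, D.ε_v]
      show _ = GrpdLib.pbE G f ≫ pbT G f
      rw [GrpdLib.pbE, GrpdLib.pbMk_t]
      exact Spec.map_id _
    · rw [Category.assoc, show ιP ≫ pbS G f = sP from hιs, ← Spec.map_comp, ← CommRingCat.ofHom_comp, D.ε_π]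
      show _ = GrpdLib.pbE G f ≫ pbS G f
      rw [GrpdLib.pbE, GrpdLib.pbMk_s]
      exact Spec.map_id _
  · haveI : IsAffine G'.U := inferInstanceAs (IsAffine (Spec (CommRingCat.of D.W)))
    haveI : IsAffine (pullback (ιP ≫ G'.s) (ιP ≫ G'.t)) := by infer_instance
    let e := (pullback (ιP ≫ G'.s) (ιP ≫ G'.t)).isoSpec
    obtain ⟨r', er'⟩ : ∃ g, Spec.map g = e.inv ≫ pullback.fst _ _ := ⟨Spec.preimage _, Spec.map_preimage _⟩
    obtain ⟨r, er⟩ : ∃ g, Spec.map g = e.inv ≫ pullback.snd _ _ := ⟨Spec.preimage _, Spec.map_preimage _⟩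
    have hc₀ : (e.inv ≫ pullback.fst _ _) ≫ sP = (e.inv ≫ pullback.snd _ _) ≫ tP := by
      rw [← hιs, ← hιt, Category.assoc, Category.assoc, pullback.condition]
    rw [← er', ← er, ← Spec.map_comp, ← Spec.map_comp] at hc₀
    obtain ⟨r'', hπ, hv, hrel⟩ := D.comp _ r'.hom r.hom (congrArg CommRingCat.Hom.hom (Spec.map_injective hc₀))
    refine ⟨e.hom ≫ Spec.map (CommRingCat.ofHom r''), ?_⟩
    rw [← cancel_epi e.inv, Category.assoc, Iso.inv_hom_id_assoc]
    have hmap : pullback.map (ιP ≫ G'.s) (ιP ≫ G'.t) G'.s G'.t ιP ιP (𝟙 G'.U) (Category.comp_id _) (Category.comp_id _) =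
        pullback.lift (pullback.fst _ _ ≫ ιP) (pullback.snd _ _ ≫ ιP)
          (by rw [Category.assoc, Category.assoc, pullback.condition]) := rfl
    have hc₁ : (Spec.map r' ≫ ιP) ≫ pbS G f = (Spec.map r ≫ ιP) ≫ pbT G f := by
      rw [er', er]
      simp only [Category.assoc]
      exact congrArg (e.inv ≫ ·) pullback.condition
    have he : e.inv ≫ pullback.map (ιP ≫ G'.s) (ιP ≫ G'.t) G'.s G'.t ιP ιP (𝟙 G'.U) (Category.comp_id _)
        (Category.comp_id _) = pullback.lift (Spec.map r' ≫ ιP) (Spec.map r ≫ ιP) hc₁ := by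
      apply pullback.hom_ext
      · refine Eq.trans ?_ (pullback.lift_fst _ _ _).symm
        rw [hmap, Category.assoc, pullback.lift_fst, er', Category.assoc]
      · refine Eq.trans ?_ (pullback.lift_snd _ _ _).symm
        rw [hmap, Category.assoc, pullback.lift_snd, er, Category.assoc]
    rw [← Category.assoc e.inv, he]
    show _ = pullback.lift _ _ _ ≫ GrpdLib.pbC G f
    refine GrpdLib.pb_ext G f ?_ ?_ ?_
    · rw [GrpdLib.pbC_ρ, Category.assoc, hρ, c.pt_map]
      obtain ⟨_, hh⟩ := hrel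
      rw [← hh]
      exact cmp_congr G (by rw [← c.pt_map, Category.assoc, hρ]; rfl) (by rw [← c.pt_map, Category.assoc, hρ]; rfl) _ _
    · rw [GrpdLib.pbC_t, Category.assoc, show ιP ≫ pbT G f = tP from hιt, ← Spec.map_comp, Category.assoc,
        show ιP ≫ pbT G f = tP from hιt, ← Spec.map_comp]
      congr 1
      exact CommRingCat.hom_ext hv
    · rw [GrpdLib.pbC_s, Category.assoc, show ιP ≫ pbS G f = sP from hιs, ← Spec.map_comp, Category.assoc,
        show ιP ≫ pbS G f = sP from hιs, ← Spec.map_comp]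
      congr 1
      exact CommRingCat.hom_ext hπ
  · rw [hιs]
    exact (IsFinite.SpecMap_iff _).2 D.finite_π
  · rw [hιt, show tP = Spec.map (CommRingCat.ofHom D.inv) ≫ sP by
      rw [← Spec.map_comp, ← CommRingCat.ofHom_comp, D.inv_π]]
    haveI : IsFinite sP := (IsFinite.SpecMap_iff _).2 D.finite_π
    haveI : IsIso (Spec.map (CommRingCat.ofHom D.inv)) :=
      ⟨Spec.map (CommRingCat.ofHom D.inv), by
        rw [← Spec.map_comp, ← CommRingCat.ofHom_comp, D.inv_inv]; exact Spec.map_id _, by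
        rw [← Spec.map_comp, ← CommRingCat.ofHom_comp, D.inv_inv]; exact Spec.map_id _⟩
    infer_instance
  · intro r' hs' ht' hρ'
    let L := G'.R.residueField r'
    let x : Spec (CommRingCat.of L) ⟶ G'.R := G'.R.fromSpecResidueField r'
    have hx : ∀ y, x y = r' := fun y => Scheme.fromSpecResidueField_apply r' y
    have hr : Set.range (x ≫ pbρ G f) ⊆ Set.range hR0.fromSpec := by
      rw [hR0.range_fromSpec]
      rintro _ ⟨y, rfl⟩
      rw [Scheme.Hom.comp_apply, hx]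
      exact hρ'
    obtain ⟨z, hz⟩ : ∃ z : B →+* L, c.pt z = x ≫ pbρ G f :=
      ⟨(Spec.preimage (IsOpenImmersion.lift hR0.fromSpec _ hr)).hom, by
        show Spec.map (CommRingCat.ofHom _) ≫ hR0.fromSpec = _
        rw [CommRingCat.ofHom_hom, Spec.map_preimage, IsOpenImmersion.lift_fac]⟩
    obtain ⟨hs, hhs⟩ : ∃ g : D.W →+* L, Spec.map (CommRingCat.ofHom g) = x ≫ pbS G f :=
      ⟨(Spec.preimage (x ≫ pbS G f)).hom, by rw [CommRingCat.ofHom_hom, Spec.map_preimage]⟩
    obtain ⟨ht, hht⟩ : ∃ g : D.W →+* L, Spec.map (CommRingCat.ofHom g) = x ≫ pbT G f :=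
      ⟨(Spec.preimage (x ≫ pbT G f)).hom, by rw [CommRingCat.ofHom_hom, Spec.map_preimage]⟩
    have hk : ∀ (g : D.W →+* L) (k : G'.R ⟶ Spec (CommRingCat.of D.W)), Spec.map (CommRingCat.ofHom g) = x ≫ k →
        k r' = u' → RingHom.ker g = RingHom.ker D.ψ.toRingHom := by
      intro g k hg hk
      have h0 := congrArg (fun m : Spec (CommRingCat.of L) ⟶ Spec (CommRingCat.of D.W) =>
        (m (⟨⊥, Ideal.isPrime_bot⟩ : PrimeSpectrum L))) hg
      simp only [Scheme.Hom.comp_apply, hx, hk] at h0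
      rw [RingHom.ker_eq_comap_bot g]
      exact congrArg PrimeSpectrum.asIdeal h0
    obtain ⟨q, hq₁, hq₂, hq₃⟩ := D.points L hs ht z (hk hs _ hhs hs') (hk ht _ hht ht')
      (c.obj_inj (by rw [← c.pt_s, hz, Category.assoc, GrpdLib.pbρ_s, ← Category.assoc, ← hhs]; exact c.obj_map _ _))
      (c.obj_inj (by rw [← c.pt_t, hz, Category.assoc, GrpdLib.pbρ_t, ← Category.assoc, ← hht]; exact c.obj_map _ _))
    have hfac : Spec.map (CommRingCat.ofHom q) ≫ ιP = x := by
      refine GrpdLib.pb_ext G f ?_ ?_ ?_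
      · rw [Category.assoc, hρ, c.pt_map, hq₃, hz]
      · rw [Category.assoc, show ιP ≫ pbT G f = tP from hιt, ← Spec.map_comp, ← CommRingCat.ofHom_comp, hq₂, hht]
      · rw [Category.assoc, show ιP ≫ pbS G f = sP from hιs, ← Spec.map_comp, ← CommRingCat.ofHom_comp, hq₁, hhs]
    let y₀ : Spec (CommRingCat.of L) := (⟨⊥, Ideal.isPrime_bot⟩ : PrimeSpectrum L)
    exact ⟨Spec.map (CommRingCat.ofHom q) y₀, by rw [← Scheme.Hom.comp_apply, hfac, hx]⟩

end Groth.Agent.Stk19b.GrpdSplit
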