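import Groth.Agent.Stk19b.GrpdSplit.Chart
import Groth.Agent.GrpdLib.Orbits
import Groth.Agent.GrpdLib.RingGrpd

/-!
# Arrows inside an affine chart of a groupoid, on points with values in rings
-/

set_option autoImplicit false
set_option backward.isDefEq.respectTransparency false

universe u

noncomputable section

open CategoryTheory CategoryTheory.Limits AlgebraicGeometry TensorProduct

namespace Groth.Agent.Stk19b.GrpdSplit

open Groth.Agent.GrpdLib (cmp cmp_congr cmp_s cmp_t comp_cmp cmp_cmp_inv_right i_comp_t)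

/-- An affine chart of the arrows of a groupoid over an affine chart of its objects. -/
structure Arr {S : Scheme.{u}} (G : Grpd.GroupoidScheme S) (A B : Type u) [CommRing A] [CommRing B]
    [Algebra A B] where
  uU : Spec (CommRingCat.of A) ≅ G.U
  ι0 : Spec (CommRingCat.of B) ⟶ G.R
  isOpen : IsOpenImmersion ι0
  tB : A →+* B
  hs : ι0 ≫ G.s = Spec.map (CommRingCat.ofHom (algebraMap A B)) ≫ uU.hom
  ht : ι0 ≫ G.t = Spec.map (CommRingCat.ofHom tB) ≫ uU.hom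

namespace Arr

variable {S : Scheme.{u}} {G : Grpd.GroupoidScheme S} {A B : Type u} [CommRing A] [CommRing B] [Algebra A B]
  (c : Arr G A B) {D D' : Type u} [CommRing D] [CommRing D']

/-- The arrow with values in a ring. -/
def pt (a : B →+* D) : Spec (CommRingCat.of D) ⟶ G.R := Spec.map (CommRingCat.ofHom a) ≫ c.ι0

/-- The object with values in a ring. -/
def obj (x : A →+* D) : Spec (CommRingCat.of D) ⟶ G.U := Spec.map (CommRingCat.ofHom x) ≫ c.uU.hom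

theorem pt_map (χ : D →+* D') (a : B →+* D) :
    Spec.map (CommRingCat.ofHom χ) ≫ c.pt a = c.pt (χ.comp a) := by
  rw [pt, pt, CommRingCat.ofHom_comp, Spec.map_comp, Category.assoc]

theorem obj_map (χ : D →+* D') (x : A →+* D) :
    Spec.map (CommRingCat.ofHom χ) ≫ c.obj x = c.obj (χ.comp x) := by
  rw [obj, obj, CommRingCat.ofHom_comp, Spec.map_comp, Category.assoc]

theorem pt_s (a : B →+* D) : c.pt a ≫ G.s = c.obj (a.comp (algebraMap A B)) := by
  rw [pt, Category.assoc, c.hs, obj, CommRingCat.ofHom_comp, Spec.map_comp, Category.assoc]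

theorem pt_t (a : B →+* D) : c.pt a ≫ G.t = c.obj (a.comp c.tB) := by
  rw [pt, Category.assoc, c.ht, obj, CommRingCat.ofHom_comp, Spec.map_comp, Category.assoc]

theorem pt_inj {a a' : B →+* D} (h : c.pt a = c.pt a') : a = a' := by
  haveI := c.isOpen
  exact congrArg CommRingCat.Hom.hom (Spec.map_injective ((cancel_mono c.ι0).1 h))

theorem obj_inj {x x' : A →+* D} (h : c.obj x = c.obj x') : x = x' :=
  congrArg CommRingCat.Hom.hom (Spec.map_injective ((cancel_mono c.uU.hom).1 h))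

/-- `Rel y a z`: the composite `y ∘ a` is `z`. -/
def Rel (y a z : B →+* D) : Prop := ∃ h, cmp G (c.pt y) (c.pt a) h = c.pt z

/-- The arrow is the identity of the object. -/
def IsId (x : A →+* D) (a : B →+* D) : Prop := c.pt a = c.obj x ≫ G.e

variable {c}

theorem comp_iff {y a : B →+* D} :
    c.pt y ≫ G.s = c.pt a ≫ G.t ↔ y.comp (algebraMap A B) = a.comp c.tB := by
  rw [pt_s, pt_t]
  exact ⟨c.obj_inj, fun h => by rw [h]⟩

theorem IsId.map {x : A →+* D} {a : B →+* D} (h : c.IsId x a) (χ : D →+* D') :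
    c.IsId (χ.comp x) (χ.comp a) := by
  show c.pt _ = c.obj _ ≫ G.e
  rw [← c.pt_map, ← c.obj_map, h, Category.assoc]

theorem IsId.src {x : A →+* D} {a : B →+* D} (h : c.IsId x a) : a.comp (algebraMap A B) = x :=
  c.obj_inj (by rw [← c.pt_s, h, Category.assoc, G.e_s, Category.comp_id])

theorem IsId.tgt {x : A →+* D} {a : B →+* D} (h : c.IsId x a) : a.comp c.tB = x :=
  c.obj_inj (by rw [← c.pt_t, h, Category.assoc, G.e_t, Category.comp_id])

theorem IsId.unique {x : A →+* D} {a a' : B →+* D} (h : c.IsId x a) (h' : c.IsId x a') : a = a' :=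
  c.pt_inj (h.trans h'.symm)

theorem Rel.map {y a z : B →+* D} (h : c.Rel y a z) (χ : D →+* D') :
    c.Rel (χ.comp y) (χ.comp a) (χ.comp z) := by
  obtain ⟨hc, e⟩ := h
  refine ⟨by rw [← c.pt_map, ← c.pt_map, Category.assoc, hc, Category.assoc], ?_⟩
  rw [← c.pt_map χ z, ← e, comp_cmp]
  exact cmp_congr G (c.pt_map χ y).symm (c.pt_map χ a).symm _ _

theorem Rel.comp {y a z : B →+* D} (h : c.Rel y a z) : y.comp (algebraMap A B) = a.comp c.tB :=
  comp_iff.1 h.1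

theorem Rel.src {y a z : B →+* D} (h : c.Rel y a z) : z.comp (algebraMap A B) = a.comp (algebraMap A B) := by
  obtain ⟨hc, e⟩ := h
  exact c.obj_inj (by rw [← c.pt_s, ← c.pt_s, ← e, cmp_s])

theorem Rel.tgt {y a z : B →+* D} (h : c.Rel y a z) : z.comp c.tB = y.comp c.tB := by
  obtain ⟨hc, e⟩ := h
  exact c.obj_inj (by rw [← c.pt_t, ← c.pt_t, ← e, cmp_t])

theorem Rel.unique {y a z z' : B →+* D} (h : c.Rel y a z) (h' : c.Rel y a z') : z = z' :=
  c.pt_inj (h.2.symm.trans h'.2)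

theorem Rel.pt_eq {y a z : B →+* D} (h : c.Rel y a z) :
    ∃ h', cmp G (c.pt z) (c.pt a ≫ G.i) h' = c.pt y := by
  obtain ⟨hc, e⟩ := h
  have h' : cmp G (c.pt y) (c.pt a) hc ≫ G.s = (c.pt a ≫ G.i) ≫ G.t := by rw [cmp_s, i_comp_t]
  refine ⟨by rw [← e, h'], ?_⟩
  rw [cmp_congr G e.symm rfl _ h']
  exact cmp_cmp_inv_right G _ _ hc h'

theorem Rel.left_unique {y y' a z : B →+* D} (h : c.Rel y a z) (h' : c.Rel y' a z) : y = y' := by
  obtain ⟨_, e⟩ := h.pt_eq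
  obtain ⟨_, e'⟩ := h'.pt_eq
  exact c.pt_inj (e.symm.trans e')

theorem rel_of_pt_eq {y a z : B →+* D} {h' : c.pt z ≫ G.s = (c.pt a ≫ G.i) ≫ G.t}
    (e : cmp G (c.pt z) (c.pt a ≫ G.i) h' = c.pt y) : c.Rel y a z := by
  have hc : c.pt y ≫ G.s = c.pt a ≫ G.t := by
    rw [← e, cmp_s, GrpdLib.i_comp_s]
  refine ⟨hc, ?_⟩
  have h1 : (c.pt a ≫ G.i) ≫ G.s = c.pt a ≫ G.t := GrpdLib.i_comp_s G _
  have h2 : c.pt z ≫ G.s = c.pt a ≫ G.s := h'.trans (i_comp_t G _)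
  refine (cmp_congr G e.symm rfl hc (by rw [e]; exact hc)).trans ?_
  refine (G.assoc (c.pt z) (c.pt a ≫ G.i) (c.pt a) h' h1).trans ?_
  refine (cmp_congr G rfl ((G.i_comp (c.pt a)).trans ?_) _ ?_).trans (G.comp_e (c.pt z))
  · rw [← Category.assoc, ← h2, Category.assoc]
  · simp only [Category.assoc, G.e_t, Category.comp_id]

theorem rel_id_right {x : A →+* D} {a z : B →+* D} (h : c.IsId x a) (hz : z.comp (algebraMap A B) = x) :
    c.Rel z a z := by
  have hc : c.pt z ≫ G.s = c.pt a ≫ G.t := comp_iff.2 (hz.trans h.tgt.symm)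
  refine ⟨hc, (cmp_congr G rfl ?_ _ ?_).trans (G.comp_e (c.pt z))⟩
  · rw [h, ← hz, ← c.pt_s, Category.assoc]
  · simp only [Category.assoc, G.e_t, Category.comp_id]

theorem rel_id_left {x : A →+* D} {a z : B →+* D} (h : c.IsId x a) (hz : z.comp c.tB = x) :
    c.Rel a z z := by
  have hc : c.pt a ≫ G.s = c.pt z ≫ G.t := comp_iff.2 (h.src.trans hz.symm)
  refine ⟨hc, (cmp_congr G ?_ rfl _ ?_).trans (G.e_comp (c.pt z))⟩
  · rw [h, ← hz, ← c.pt_t, Category.assoc]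
  · simp only [Category.assoc, G.e_s, Category.comp_id]

theorem Rel.trans {y a₂ b₂ a z b : B →+* D} (h₁ : c.Rel y a₂ b₂) (h₂ : c.Rel b₂ a z) (h₃ : c.Rel a₂ a b) :
    c.Rel y b z := by
  obtain ⟨c₁, e₁⟩ := h₁
  obtain ⟨c₂, e₂⟩ := h₂
  obtain ⟨c₃, e₃⟩ := h₃
  have c₄ : c.pt y ≫ G.s = c.pt b ≫ G.t := by rw [c₁, ← e₃, cmp_t]
  refine ⟨c₄, ?_⟩
  refine (cmp_congr G rfl e₃.symm c₄ (c₁.trans (cmp_t G _ _ c₃).symm)).trans ?_
  refine ((G.assoc (c.pt y) (c.pt a₂) (c.pt a) c₁ c₃).symm.trans ?_)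
  exact (cmp_congr G e₁ rfl ((cmp_s G _ _ c₁).trans c₃) c₂).trans e₂

theorem Rel.split {y b z b₂ a a₂ : B →+* D} (h₁ : c.Rel y b z) (h₂ : c.Rel b₂ a z) (h₃ : c.Rel a₂ a b) :
    c.Rel y a₂ b₂ := by
  obtain ⟨c₁, e₁⟩ := h₁
  obtain ⟨c₂, e₂⟩ := h₂
  obtain ⟨c₃, e₃⟩ := h₃
  have c₄ : c.pt y ≫ G.s = c.pt a₂ ≫ G.t := by rw [c₁, ← e₃, cmp_t]
  refine ⟨c₄, ?_⟩
  have c₅ : cmp G (c.pt y) (c.pt a₂) c₄ ≫ G.s = c.pt a ≫ G.t := by rw [cmp_s, c₃]
  have e₅ : cmp G (cmp G (c.pt y) (c.pt a₂) c₄) (c.pt a) c₅ = c.pt z := by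
    refine (G.assoc (c.pt y) (c.pt a₂) (c.pt a) c₄ c₃).trans ?_
    exact (cmp_congr G rfl e₃ (c₄.trans (cmp_t G _ _ c₃).symm) c₁).trans e₁
  have k₁ : cmp G (cmp G (c.pt y) (c.pt a₂) c₄) (c.pt a) c₅ ≫ G.s = (c.pt a ≫ G.i) ≫ G.t := by
    rw [cmp_s, i_comp_t]
  have k₂ : cmp G (c.pt b₂) (c.pt a) c₂ ≫ G.s = (c.pt a ≫ G.i) ≫ G.t := by rw [cmp_s, i_comp_t]
  exact (cmp_cmp_inv_right G _ _ c₅ k₁).symm.trans
    ((cmp_congr G (e₅.trans e₂.symm) rfl k₁ k₂).trans (cmp_cmp_inv_right G _ _ c₂ k₂))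

theorem Rel.inv {x x' : A →+* D} {y a z w : B →+* D} (h : c.Rel y a z) (hz : c.IsId x z) (hw : c.IsId x' w)
    (hx' : a.comp c.tB = x') : c.Rel a y w := by
  obtain ⟨_, e⟩ := h.pt_eq
  have hy : c.pt y = c.pt a ≫ G.i := by
    rw [← e]
    refine (cmp_congr G ?_ rfl _ ?_).trans (G.e_comp (c.pt a ≫ G.i))
    · rw [hz]
      have : x = a.comp (algebraMap A B) := hz.src.symm.trans h.src
      rw [this, ← c.pt_s, ← Category.assoc, i_comp_t]
    · simp only [Category.assoc, G.e_s, Category.comp_id]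
  have hc : c.pt a ≫ G.s = c.pt y ≫ G.t := by rw [hy, i_comp_t]
  refine ⟨hc, (cmp_congr G rfl hy _ ?_).trans ((G.comp_i (c.pt a)).trans ?_)⟩
  · rw [i_comp_t]
  · rw [hw, ← hx', ← c.pt_t, Category.assoc]

end Arr

end Groth.Agent.Stk19b.GrpdSplit
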