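import Groth.Agent.Stk19b.GrpdSplit.Points
import Groth.Agent.Stk19b.GrpdSplit.Det

/-!
# Translates of the clopen pieces
-/

set_option autoImplicit false
set_option backward.isDefEq.respectTransparency false

universe u

noncomputable section

open CategoryTheory CategoryTheory.Limits AlgebraicGeometry TensorProduct

namespace Groth.Agent.Stk19b.GrpdSplit

open Groth.Agent.GrpdLib (cmp liftRing liftRing_tmul i_comp_t cmp_congr comp_cmp)

variable {S : Scheme.{u}} {G : Grpd.GroupoidScheme S} {A B : Type u} [CommRing A] [CommRing B] [Algebra A B]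
  (c : Arr G A B) {n : ℕ} (b : Fin n → B) {κ : Type u} [Field κ] [Algebra A κ]

/-- The hypotheses on the points of the chart over the point. -/
structure Closed (κ : Type u) [Field κ] [Algebra A κ] : Prop where
  hκ : ∀ x : κ, ∃ a s : A, IsUnit (algebraMap A κ s) ∧ x * algebraMap A κ s = algebraMap A κ a
  hι : ∀ (L : Type u) [Field L] [Algebra A L],
    RingHom.ker (algebraMap A L) = RingHom.ker (algebraMap A κ) → Nonempty (κ →ₐ[A] L)
  tgt : ∀ (L : Type u) [Field L] (a : B →+* L),
    RingHom.ker (a.comp (algebraMap A B)) = RingHom.ker (algebraMap A κ) →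
      RingHom.ker (a.comp c.tB) = RingHom.ker (algebraMap A κ)
  div : ∀ (L : Type u) [Field L] (a z : B →+* L),
    RingHom.ker (a.comp (algebraMap A B)) = RingHom.ker (algebraMap A κ) →
      a.comp (algebraMap A B) = z.comp (algebraMap A B) → ∃ y, c.Rel y a z
  unit : ∃ r : Spec (CommRingCat.of B), c.ι0 r = G.e (c.uU.hom ⟨RingHom.ker (algebraMap A κ), RingHom.ker_isPrime _⟩)

variable {P : Type u} [CommRing P] [Algebra A P] {J : Ideal (P ⊗[A] B)} (ψ₀ : P →ₐ[A] κ)

variable (J) in
/-- The piece has the given elements as a basis over the parameters. -/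
theorem exists_basis (hJ : IsBasisQuot b P J) :
    ∃ bas : Module.Basis (Fin n) P (Piece J), ∀ j, bas j = Ideal.Quotient.mk J ((1 : P) ⊗ₜ[A] b j) := by
  let e : (Fin n → P) →ₗ[P] Piece J := (Ideal.Quotient.mkₐ P J).toLinearMap.comp (comb b P)
  have he : Function.Bijective e := by
    refine ⟨(injective_iff_map_eq_zero _).2 fun v hv => hJ.2 v (Ideal.Quotient.eq_zero_iff_mem.1 hv), fun z => ?_⟩
    obtain ⟨z, rfl⟩ := Ideal.Quotient.mk_surjective z
    obtain ⟨v, hv⟩ := hJ.1 z
    exact ⟨v, (Ideal.Quotient.eq.2 hv).symm⟩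
  refine ⟨Module.Basis.ofEquivFun (LinearEquiv.ofBijective e he).symm, fun j => ?_⟩
  rw [Module.Basis.coe_ofEquivFun]
  show e (Pi.single j 1) = _
  simp [e, comb, Pi.single_apply, ite_smul]

theorem finite_piece (hJ : IsBasisQuot b P J) : Module.Finite P (Piece J) :=
  let ⟨bas, _⟩ := exists_basis b J hJ
  Module.Finite.of_basis bas

variable {c}

theorem ker_comp_algebraMap {L : Type u} [Field L] {h : P →+* L} (hk : RingHom.ker h = RingHom.ker ψ₀.toRingHom) :
    RingHom.ker (h.comp (algebraMap A P)) = RingHom.ker (algebraMap A κ) := by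
  rw [← RingHom.comap_ker, hk, RingHom.comap_ker]
  exact congrArg RingHom.ker ψ₀.comp_algebraMap

/-- Pairs of points of the piece over the same parameter. -/
theorem exists_pairs {n : ℕ} (b : Fin n → B) (hJ : IsBasisQuot b P J) :
    ∃ (C : Type u) (_ : CommRing C) (_ : Algebra P C) (_ : Module.Finite P C) (q₁u q₂u : Piece J →+* C),
      hq J q₁u = algebraMap P C ∧ hq J q₂u = algebraMap P C ∧
      ∀ (D : Type u) [CommRing D] (q₁ q₂ : Piece J →+* D), hq J q₁ = hq J q₂ →
        ∃ r : C →+* D, r.comp q₁u = q₁ ∧ r.comp q₂u = q₂ ∧ r.comp (algebraMap P C) = hq J q₁ := by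
  haveI := finite_piece b hJ
  refine ⟨Piece J ⊗[P] Piece J, inferInstance, inferInstance, inferInstance,
    (Algebra.TensorProduct.includeLeft : Piece J →ₐ[P] Piece J ⊗[P] Piece J).toRingHom,
    (Algebra.TensorProduct.includeRight : Piece J →ₐ[P] Piece J ⊗[P] Piece J).toRingHom,
    (Algebra.TensorProduct.includeLeft : Piece J →ₐ[P] Piece J ⊗[P] Piece J).comp_algebraMap,
    (Algebra.TensorProduct.includeRight : Piece J →ₐ[P] Piece J ⊗[P] Piece J).comp_algebraMap, fun D _ q₁ q₂ h => ?_⟩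
  letI : Algebra P D := (hq J q₁).toAlgebra
  let φ₁ : Piece J →ₐ[P] D := { q₁ with commutes' := fun _ => rfl }
  let φ₂ : Piece J →ₐ[P] D := { q₂ with commutes' := fun x => (RingHom.congr_fun h x).symm }
  let r : Piece J ⊗[P] Piece J →ₐ[P] D := Algebra.TensorProduct.lift φ₁ φ₂ fun _ _ => .all ..
  refine ⟨r.toRingHom, RingHom.ext fun x => ?_, RingHom.ext fun x => ?_, r.comp_algebraMap⟩
  · show r (x ⊗ₜ[P] (1 : Piece J)) = q₁ x
    rw [Algebra.TensorProduct.lift_tmul, map_one, mul_one]; rfl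
  · show r ((1 : Piece J) ⊗ₜ[P] x) = q₂ x
    rw [Algebra.TensorProduct.lift_tmul, map_one, one_mul]; rfl

/-- The map out of a base change given by a map of the arrows. -/
theorem exists_baseChange_hom {T C : Type u} [CommRing T] [Algebra A T] [CommRing C] [Algebra T C] (y : B →+* C)
    (hyc : y.comp (algebraMap A B) = (algebraMap T C).comp (algebraMap A T)) :
    ∃ Φ : T ⊗[A] B →ₐ[T] C, ∀ t w, Φ (t ⊗ₜ[A] w) = algebraMap T C t * y w :=
  ⟨AlgHom.mk' (liftRing (algebraMap T C) y hyc) fun t x => by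
      rw [Algebra.smul_def, Algebra.smul_def, map_mul]
      congr 1
      show liftRing (algebraMap T C) y hyc (t ⊗ₜ[A] (1 : B)) = algebraMap T C t
      rw [liftRing_tmul, map_one, mul_one],
    fun t w => liftRing_tmul _ _ hyc t w⟩

/-- A map from a finite algebra which separates maps out of it is surjective. -/
theorem surjective_of_ext {T R C : Type u} [CommRing T] [CommRing R] [CommRing C] [Algebra T R] [Algebra T C]
    [Module.Finite T C] (Φ : R →ₐ[T] C)
    (H : ∀ (D : Type u) [CommRing D] (f g : C →+* D), f.comp Φ.toRingHom = g.comp Φ.toRingHom → f = g) :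
    Function.Surjective Φ := by
  letI : Algebra R C := Φ.toRingHom.toAlgebra
  haveI : IsScalarTower T R C := IsScalarTower.of_algebraMap_eq fun t => (Φ.commutes t).symm
  haveI : Module.Finite R C := Module.Finite.of_restrictScalars_finite T _ C
  haveI : Epi (CommRingCat.ofHom Φ.toRingHom) :=
    ⟨fun {D} f g e => CommRingCat.hom_ext (H D f.hom g.hom (congrArg CommRingCat.Hom.hom e))⟩
  exact RingHom.surjective_of_epi_of_finite (CommRingCat.ofHom Φ.toRingHom) ‹_›

/-- The piece over a base change of the parameters. -/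
theorem exists_pushout {n : ℕ} (b : Fin n → B) (hJ : IsBasisQuot b P J) {T : Type u} [CommRing T] (h : P →+* T) :
    ∃ (C : Type u) (_ : CommRing C) (_ : Algebra T C) (qr : Piece J →+* C) (_ : Module.Basis (Fin n) T C),
      hq J qr = (algebraMap T C).comp h ∧
      (∀ (D : Type u) [CommRing D] (χ : T →+* D) (q : Piece J →+* D), hq J q = χ.comp h →
        ∃ r : C →+* D, r.comp (algebraMap T C) = χ ∧ r.comp qr = q) ∧
      ∀ (D : Type u) [CommRing D] (f g : C →+* D),
        f.comp (algebraMap T C) = g.comp (algebraMap T C) → f.comp qr = g.comp qr → f = g := by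
  obtain ⟨bas, -⟩ := exists_basis b J hJ
  letI : Algebra P T := h.toAlgebra
  refine ⟨T ⊗[P] Piece J, inferInstance, inferInstance,
    (Algebra.TensorProduct.includeRight : Piece J →ₐ[P] T ⊗[P] Piece J).toRingHom,
    Algebra.TensorProduct.basis T bas, ?_, fun D _ χ q hh => ?_, fun D _ f g hf hg => ?_⟩
  · exact (Algebra.TensorProduct.includeRight : Piece J →ₐ[P] T ⊗[P] Piece J).comp_algebraMap
  · letI : Algebra P D := (χ.comp h).toAlgebra
    let φ₁ : T →ₐ[P] D := { χ with commutes' := fun _ => rfl }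
    let φ₂ : Piece J →ₐ[P] D := { q with commutes' := fun x => RingHom.congr_fun hh x }
    refine ⟨(Algebra.TensorProduct.lift φ₁ φ₂ fun _ _ => .all ..).toRingHom, RingHom.ext fun x => ?_,
      RingHom.ext fun x => ?_⟩
    · show (Algebra.TensorProduct.lift φ₁ φ₂ fun _ _ => .all ..) (x ⊗ₜ[P] (1 : Piece J)) = χ x
      rw [Algebra.TensorProduct.lift_tmul, map_one, mul_one]; rfl
    · show (Algebra.TensorProduct.lift φ₁ φ₂ fun _ _ => .all ..) ((1 : T) ⊗ₜ[P] x) = q x
      rw [Algebra.TensorProduct.lift_tmul, map_one, one_mul]; rfl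
  · refine RingHom.ext fun z => ?_
    induction z using TensorProduct.induction_on with
    | zero => simp only [map_zero]
    | tmul x y =>
      rw [show x ⊗ₜ[P] y = (x ⊗ₜ[P] (1 : Piece J)) * ((1 : T) ⊗ₜ[P] y) by
        rw [Algebra.TensorProduct.tmul_mul_tmul, mul_one, one_mul], map_mul, map_mul]
      exact congrArg₂ (· * ·) (RingHom.congr_fun hf x) (RingHom.congr_fun hg y)
    | add z w hz hw => simp only [map_add, hz, hw]

/-- A ring with a new structure of algebra. -/
@[nolint unusedArguments]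
def Twist (T : Type u) [CommRing T] (_ : A →+* T) : Type u := T

instance (T : Type u) [CommRing T] (x : A →+* T) : CommRing (Twist T x) := inferInstanceAs (CommRing T)
instance (T : Type u) [CommRing T] (x : A →+* T) : Algebra A (Twist T x) := RingHom.toAlgebra (S := Twist T x) x

variable (hC : Closed c κ)
include hC

/-- Near the point the identity lies in the piece. -/
theorem exists_unit_nbhd (hJid : IsIdempotentElem J) (hJfg : J.FG) (hJ₀ : J.map (mapT ψ₀) = ⊥) :
    ∃ g : P, ψ₀ g ≠ 0 ∧ ∀ (D : Type u) [CommRing D] (h : P →+* D), IsUnit (h g) →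
      ∃ q : Piece J →+* D, hq J q = h ∧ c.IsId (h.comp (algebraMap A P)) (aq J q) := by
  classical
  haveI := c.isOpen
  let p : Spec (CommRingCat.of P) := ⟨RingHom.ker ψ₀.toRingHom, RingHom.ker_isPrime _⟩
  let m : Spec (CommRingCat.of P) ⟶ G.R := c.obj (algebraMap A P) ≫ G.e
  have hp : m p ∈ c.ι0.opensRange := by
    obtain ⟨r, hr⟩ := hC.unit
    refine ⟨r, hr.trans ?_⟩
    show G.e (c.uU.hom _) = G.e (c.uU.hom (Spec.map (CommRingCat.ofHom (algebraMap A P)) p))
    congr 2
    refine PrimeSpectrum.ext ?_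
    show RingHom.ker (algebraMap A κ) = Ideal.comap (algebraMap A P) (RingHom.ker ψ₀.toRingHom)
    rw [RingHom.comap_ker]
    exact congrArg RingHom.ker ψ₀.comp_algebraMap.symm
  obtain ⟨_, ⟨g, rfl⟩, hpg, hgV⟩ := PrimeSpectrum.isTopologicalBasis_basic_opens.exists_subset_of_mem_open hp
    (m ⁻¹ᵁ c.ι0.opensRange).2
  have hlift : ∀ (D : Type u) [CommRing D] (h : P →+* D), IsUnit (h g) →
      ∃ a : B →+* D, c.IsId (h.comp (algebraMap A P)) a := by
    intro D _ h hu
    have hr : Set.range (c.obj (h.comp (algebraMap A P)) ≫ G.e) ⊆ Set.range c.ι0 := by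
      rintro _ ⟨x, rfl⟩
      rw [← c.obj_map, Category.assoc, Scheme.Hom.comp_apply]
      exact hgV (show g ∉ _ from fun hx => x.2.ne_top (Ideal.eq_top_of_isUnit_mem _ hx hu))
    let l := IsOpenImmersion.lift c.ι0 (c.obj (h.comp (algebraMap A P)) ≫ G.e) hr
    refine ⟨(Spec.preimage l).hom, ?_⟩
    show Spec.map (CommRingCat.ofHom (Spec.preimage l).hom) ≫ c.ι0 = _
    rw [CommRingCat.ofHom_hom, Spec.map_preimage, IsOpenImmersion.lift_fac]
  obtain ⟨ε, hε, hJε⟩ := (Ideal.isIdempotentElem_iff_of_fg J hJfg).1 hJid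
  let loc : P →+* Localization.Away g := algebraMap P (Localization.Away g)
  obtain ⟨a, ha⟩ := hlift (Localization.Away g) loc (IsLocalization.Away.algebraMap_isUnit g)
  let Φ := liftRing loc a ha.src
  have hψg : IsUnit (ψ₀.toRingHom g) := isUnit_iff_ne_zero.2 hpg
  let ψ' : Localization.Away g →+* κ := IsLocalization.Away.lift g hψg
  have hψ' : ψ'.comp loc = ψ₀.toRingHom := IsLocalization.Away.lift_comp g hψg
  let ab : B →ₐ[A] κ :=
    { ψ'.comp a with
      commutes' := fun r => by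
        show ψ' (a (algebraMap A B r)) = _
        rw [show a (algebraMap A B r) = loc (algebraMap A P r) from RingHom.congr_fun ha.src r]
        exact (RingHom.congr_fun hψ' _).trans (ψ₀.commutes r) }
  let μ : κ ⊗[A] B →ₐ[A] κ := Algebra.TensorProduct.lift (AlgHom.id A κ) ab fun _ _ => .all ..
  have hμ : ∀ w, ψ' (Φ w) = μ (mapT ψ₀ w) := fun w => by
    induction w using TensorProduct.induction_on with
    | zero => simp only [map_zero]
    | tmul x y =>
      rw [liftRing_tmul, map_mul, Algebra.TensorProduct.map_tmul, AlgHom.id_apply, Algebra.TensorProduct.lift_tmul]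
      congr 1
      exact RingHom.congr_fun hψ' x
    | add z w hz hw => simp only [map_add, hz, hw]
  have hw0 : ψ' (Φ ε) = 0 := by
    rw [hμ, show mapT ψ₀ ε = 0 from (Submodule.mem_bot _).1 (hJ₀ ▸ Ideal.mem_map_of_mem (mapT ψ₀)
      (by rw [hJε]; exact Ideal.mem_span_singleton_self ε)), map_zero]
  obtain ⟨⟨num, ⟨d, k, rfl⟩⟩, hnum⟩ := IsLocalization.surj (Submonoid.powers g) (1 - Φ ε)
  refine ⟨g * num, ?_, fun D _ h hu => ?_⟩
  · rw [map_mul]
    refine mul_ne_zero hψg.ne_zero ?_
    have := congrArg ψ' hnum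
    rw [map_mul, map_sub, map_one, hw0, sub_zero, one_mul] at this
    rw [show ψ₀ num = ψ' (algebraMap P (Localization.Away g) num) from (RingHom.congr_fun hψ' num).symm,
      ← this, show ψ' (algebraMap P (Localization.Away g) (g ^ k)) = ψ₀.toRingHom (g ^ k) from RingHom.congr_fun hψ' _,
      map_pow]
    exact pow_ne_zero _ hψg.ne_zero
  · rw [map_mul, IsUnit.mul_iff] at hu
    let χ : Localization.Away g →+* D := IsLocalization.Away.lift g hu.1
    have hχ : χ.comp loc = h := IsLocalization.Away.lift_comp g hu.1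
    have hid := ha.map χ
    have hz : χ (Φ ε) = 0 := by
      have h1 : χ (Φ ε) * (1 - χ (Φ ε)) = 0 := by
        rw [mul_sub, mul_one, ← map_mul, ← map_mul, hε.eq, sub_self]
      have h2 := congrArg χ hnum
      rw [map_mul, map_sub, map_one] at h2
      have h3 : IsUnit ((1 - χ (Φ ε)) * χ (loc (g ^ k))) := by
        rw [h2, show χ (loc num) = h num from RingHom.congr_fun hχ num]
        exact hu.2
      exact (IsUnit.mul_iff.1 h3).1.mul_left_eq_zero.1 h1
    have hin : InZ J h (χ.comp a) := by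
      have hc : (χ.comp a).comp (algebraMap A B) = h.comp (algebraMap A P) := by
        rw [← hχ, RingHom.comp_assoc, ha.src]; rfl
      have he : liftRing h (χ.comp a) hc = χ.comp Φ := RingHom.ext fun w => by
        induction w using TensorProduct.induction_on with
        | zero => simp only [map_zero]
        | tmul x y =>
          rw [RingHom.comp_apply, liftRing_tmul, liftRing_tmul, map_mul, ← RingHom.comp_apply χ loc, hχ]
          rfl
        | add z w hz hw => simp only [map_add, hz, hw]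
      refine (inZ_iff J hc).2 ?_
      rw [hJε, Ideal.span_le, Set.singleton_subset_iff]
      show liftRing h (χ.comp a) hc ε = 0
      rw [he]
      exact hz
    obtain ⟨q, hq, hqa⟩ := hin
    refine ⟨q, hq, ?_⟩
    rw [hqa, ← hχ]
    exact hid

/-- Near the point two arrows of a piece differ by an arrow of the chart. -/
theorem exists_div_nbhd (hJ : IsBasisQuot b P J) :
    ∃ g : P, ψ₀ g ≠ 0 ∧ ∀ (D : Type u) [CommRing D] (q₁ q₂ : Piece J →+* D), hq J q₁ = hq J q₂ →
      IsUnit (hq J q₁ g) → ∃ y, c.Rel y (aq J q₁) (aq J q₂) := by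
  classical
  haveI := c.isOpen
  obtain ⟨C, _, _, _, q₁u, q₂u, he₁, he₂, huniv⟩ := exists_pairs b hJ
  have hu0 : hq J q₁u = hq J q₂u := he₁.trans he₂.symm
  have hst : ∀ {D : Type u} [CommRing D] (q q' : Piece J →+* D), hq J q = hq J q' →
      c.pt (aq J q') ≫ G.s = (c.pt (aq J q) ≫ G.i) ≫ G.t := fun q q' h => by
    rw [i_comp_t, c.pt_s, c.pt_s, aq_alg, aq_alg, h]
  let m : Spec (CommRingCat.of C) ⟶ G.R := cmp G (c.pt (aq J q₂u)) (c.pt (aq J q₁u) ≫ G.i) (hst _ _ hu0)
  let V := m ⁻¹ᵁ c.ι0.opensRange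
  let V₀ : Set (PrimeSpectrum C) := V.1
  obtain ⟨I, hI⟩ : ∃ I : Ideal C, PrimeSpectrum.zeroLocus (I : Set C) = V₀ᶜ :=
    ⟨PrimeSpectrum.vanishingIdeal V₀ᶜ,
      (PrimeSpectrum.zeroLocus_vanishingIdeal_eq_closure _).trans
        (show IsOpen V₀ from V.2).isClosed_compl.closure_eq⟩
  let p := RingHom.ker ψ₀.toRingHom
  haveI : p.IsPrime := RingHom.ker_isPrime _
  haveI : Algebra.IsIntegral P C := Algebra.IsIntegral.of_finite P C
  obtain ⟨g, hgp, hgI⟩ := exists_notMem_forall p I fun L _ r hr hle => by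
    have hpV : (⟨RingHom.ker r, RingHom.ker_isPrime _⟩ : PrimeSpectrum C) ∈ V := by
      have hh : hq J (r.comp q₁u) = hq J (r.comp q₂u) := congrArg (RingHom.comp r) hu0
      obtain ⟨y, hy⟩ := hC.div L (aq J (r.comp q₁u)) (aq J (r.comp q₂u)) (by
        rw [aq_alg]
        exact ker_comp_algebraMap ψ₀ (by exact (congrArg (fun k => RingHom.ker (r.comp k)) he₁).trans hr)) (by rw [aq_alg, aq_alg, hh])
      obtain ⟨_, e⟩ := hy.pt_eq
      have e2 : Spec.map (CommRingCat.ofHom r) ≫ m = c.pt y := by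
        rw [← e, comp_cmp]
        exact cmp_congr G (c.pt_map r _) (by rw [← Category.assoc, c.pt_map]; rfl) _ _
      let x0 : Spec (CommRingCat.of L) := ⟨⊥, Ideal.isPrime_bot⟩
      have e3 : Spec.map (CommRingCat.ofHom r) x0 = (⟨RingHom.ker r, RingHom.ker_isPrime _⟩ : PrimeSpectrum C) :=
        PrimeSpectrum.ext (RingHom.ker_eq_comap_bot r).symm
      rw [← e3]
      refine ⟨Spec.map (CommRingCat.ofHom y) x0, ?_⟩
      rw [← Scheme.Hom.comp_apply, ← Scheme.Hom.comp_apply, e2]
      rfl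
    exact (show (⟨RingHom.ker r, RingHom.ker_isPrime _⟩ : PrimeSpectrum C) ∈ V₀ᶜ from
      hI ▸ (PrimeSpectrum.mem_zeroLocus _ _).2 hle) hpV
  refine ⟨g, hgp, fun D _ q₁ q₂ h hu => ?_⟩
  obtain ⟨r, r₁, r₂, r₀⟩ := huniv D q₁ q₂ h
  have hr : Set.range (Spec.map (CommRingCat.ofHom r) ≫ m) ⊆ Set.range c.ι0 := by
    rintro _ ⟨x, rfl⟩
    rw [Scheme.Hom.comp_apply]
    have hxV : Spec.map (CommRingCat.ofHom r) x ∈ V := by
      by_contra hxV
      have h0 : (Spec.map (CommRingCat.ofHom r) x : PrimeSpectrum C) ∈ PrimeSpectrum.zeroLocus (I : Set C) :=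
        hI.symm ▸ hxV
      have h1 : r (algebraMap P C g) ∈ x.asIdeal := (PrimeSpectrum.mem_zeroLocus _ _).1 h0 hgI
      rw [← RingHom.comp_apply, r₀] at h1
      exact x.2.ne_top (Ideal.eq_top_of_isUnit_mem _ h1 hu)
    exact hxV
  let l := IsOpenImmersion.lift c.ι0 (Spec.map (CommRingCat.ofHom r) ≫ m) hr
  refine ⟨(Spec.preimage l).hom, Arr.rel_of_pt_eq (h' := hst q₁ q₂ h) ?_⟩
  show _ = Spec.map (CommRingCat.ofHom (Spec.preimage l).hom) ≫ c.ι0
  rw [CommRingCat.ofHom_hom, Spec.map_preimage, IsOpenImmersion.lift_fac, comp_cmp]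
  refine cmp_congr G ?_ ?_ _ _
  · rw [c.pt_map, ← RingHom.comp_assoc, r₂]
  · rw [← Category.assoc, c.pt_map, ← RingHom.comp_assoc, r₁]

set_option maxHeartbeats 1000000 in
omit hC in
/-- The graph of the translation. -/
theorem exists_graph (hJ : IsBasisQuot b P J)
    (g₀ : P) (hdiv : ∀ (D : Type u) [CommRing D] (q₁ q₂ : Piece J →+* D), hq J q₁ = hq J q₂ →
      IsUnit (hq J q₁ g₀) → ∃ y, c.Rel y (aq J q₁) (aq J q₂))
    {T : Type u} [CommRing T] [Algebra A T] (loc : Piece J →+* T) (hlu : IsUnit (hq J loc g₀))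
    (hT : algebraMap A T = (aq J loc).comp c.tB) :
    ∃ (C : Type u) (_ : CommRing C) (_ : Algebra T C) (qr : Piece J →+* C) (_ : Module.Basis (Fin n) T C)
      (y : B →+* C) (Φ : T ⊗[A] B →ₐ[T] C), (∀ t w, Φ (t ⊗ₜ[A] w) = algebraMap T C t * y w) ∧
      Function.Surjective Φ ∧ hq J qr = (algebraMap T C).comp (hq J loc) ∧
      c.Rel y ((algebraMap T C).comp (aq J loc)) (aq J qr) ∧
      ∀ (D : Type u) [CommRing D] (χ : T →+* D) (q : Piece J →+* D), hq J q = χ.comp (hq J loc) →
        ∃ r : C →+* D, r.comp (algebraMap T C) = χ ∧ r.comp qr = q := by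
  classical
  obtain ⟨C, _, _, qr, bas, hqr, hcu, hce⟩ := exists_pushout b hJ (hq J loc)
  let q₁ : Piece J →+* C := (algebraMap T C).comp loc
  have h12 : hq J q₁ = hq J qr := hqr.symm
  obtain ⟨y, hy⟩ := hdiv C q₁ qr h12 (hlu.map (algebraMap T C))
  have hyc : y.comp (algebraMap A B) = (algebraMap T C).comp (algebraMap A T) := by
    rw [hy.comp, hT]; rfl
  obtain ⟨Φ, hΦt⟩ := exists_baseChange_hom y hyc
  have hΦ : Function.Surjective Φ := by
    haveI : Module.Finite T C := Module.Finite.of_basis bas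
    refine surjective_of_ext Φ fun D _ f g e => ?_
    have eT : f.comp (algebraMap T C) = g.comp (algebraMap T C) := RingHom.ext fun t => by
      have := RingHom.congr_fun e (t ⊗ₜ[A] (1 : B))
      simpa [hΦt] using this
    have ey : f.comp y = g.comp y := RingHom.ext fun w => by
      have := RingHom.congr_fun e ((1 : T) ⊗ₜ[A] w)
      simpa [hΦt] using this
    refine hce D _ _ eT (q_ext J ?_ ?_)
    · show (f.comp qr).comp _ = (g.comp qr).comp _
      rw [RingHom.comp_assoc, RingHom.comp_assoc, show qr.comp (algebraMap P (Piece J)) = _ from hqr,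
        ← RingHom.comp_assoc, eT, RingHom.comp_assoc]
    · have r1 := hy.map f
      have r2 := hy.map g
      rw [← ey, show g.comp (aq J q₁) = f.comp (aq J q₁) from
        (congrArg (fun k => RingHom.comp k (aq J loc)) eT).symm] at r2
      exact r1.unique r2
  exact ⟨C, inferInstance, inferInstance, qr, bas, y, Φ, hΦt, hΦ, hqr, hy, hcu⟩

set_option maxHeartbeats 1000000 in
omit hC in
/-- The point classifying the translate. -/
theorem tr_of_map_eq {T : Type u} [CommRing T] [Algebra A T] (loc : Piece J →+* T)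
    (hT : algebraMap A T = (aq J loc).comp c.tB) {C : Type u} [CommRing C] [Algebra T C] {qr : Piece J →+* C}
    {y : B →+* C} {Φ : T ⊗[A] B →ₐ[T] C} (hΦt : ∀ t w, Φ (t ⊗ₜ[A] w) = algebraMap T C t * y w)
    (hΦ : Function.Surjective Φ) (hqr : hq J qr = (algebraMap T C).comp (hq J loc))
    (hy : c.Rel y ((algebraMap T C).comp (aq J loc)) (aq J qr))
    (hcu : ∀ (D : Type u) [CommRing D] (χ : T →+* D) (q : Piece J →+* D), hq J q = χ.comp (hq J loc) →
        ∃ r : C →+* D, r.comp (algebraMap T C) = χ ∧ r.comp qr = q)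
    {D : Type u} [CommRing D] [Algebra A D] (χA : T →ₐ[A] D) (χ : T →+* D) (hχ : χA.toRingHom = χ)
    (ψ : P →ₐ[A] D) (hψ : J.map (mapT ψ) = (RingHom.ker Φ.toRingHom).map (mapT χA)) :
    Tr c J (χ.comp loc) ψ.toRingHom := by
  subst hχ
  let χ := χA.toRingHom
  have hψc : ψ.toRingHom.comp (algebraMap A P) = (aq J (χ.comp loc)).comp c.tB := by
    rw [show ψ.toRingHom.comp (algebraMap A P) = algebraMap A D from ψ.comp_algebraMap]
    rw [← χA.comp_algebraMap]
    rw [hT]
    rfl
  refine ⟨hψc, fun D' _ θ z hz => ?_⟩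
  have hzD : z.comp (algebraMap A B) = (θ.comp ψ.toRingHom).comp (algebraMap A P) := by
    exact hz.trans (congrArg (RingHom.comp θ) hψc).symm
  have hzT : z.comp (algebraMap A B) = θ.comp (algebraMap A D) := by
    exact hzD.trans (congrArg (RingHom.comp θ) ψ.comp_algebraMap)
  let l : D ⊗[A] B →+* D' := liftRing θ z hzT
  have hlJ : ∀ w, l (mapT ψ w) = liftRing (θ.comp ψ.toRingHom) z hzD w := fun w => by
    induction w using TensorProduct.induction_on with
    | zero => simp only [map_zero]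
    | tmul x v => rw [Algebra.TensorProduct.map_tmul, liftRing_tmul, liftRing_tmul]; rfl
    | add w w' hw hw' => simp only [map_add, hw, hw']
  rw [inZ_iff J hzD]
  constructor
  · intro H
    have hK : RingHom.ker Φ.toRingHom ≤ RingHom.ker (l.comp (mapT χA).toRingHom) := fun w hw => by
      have h1 : mapT χA w ∈ J.map (mapT ψ) := hψ ▸ Ideal.mem_map_of_mem _ hw
      exact (Ideal.map_le_iff_le_comap.2 (fun v hv => by
        rw [Ideal.mem_comap, RingHom.mem_ker, hlJ]; exact H hv) : J.map (mapT ψ) ≤ RingHom.ker l) h1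
    let f : C →+* D' := Φ.toRingHom.liftOfSurjective hΦ ⟨_, hK⟩
    have hf : ∀ w, f (Φ w) = l (mapT χA w) := fun w =>
      Φ.toRingHom.liftOfRightInverse_comp_apply _ (Function.rightInverse_surjInv hΦ) ⟨_, hK⟩ w
    have fT : f.comp (algebraMap T C) = θ.comp χ := RingHom.ext fun t => by
      have := hf (algebraMap T (T ⊗[A] B) t)
      rw [AlgHom.commutes] at this
      refine this.trans ?_
      show l (mapT χA (t ⊗ₜ[A] (1 : B))) = θ (χ t)
      rw [Algebra.TensorProduct.map_tmul, liftRing_tmul, AlgHom.id_apply, map_one, mul_one]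
      rfl
    have fy : f.comp y = z := RingHom.ext fun v => by
      have := hf ((1 : T) ⊗ₜ[A] v)
      rw [hΦt, map_one, one_mul, Algebra.TensorProduct.map_tmul, map_one, liftRing_tmul, map_one, one_mul,
        AlgHom.id_apply] at this
      exact this
    refine ⟨f.comp qr, ?_, ?_⟩
    · show (f.comp qr).comp _ = _
      rw [RingHom.comp_assoc, show qr.comp (algebraMap P (Piece J)) = _ from hqr, ← RingHom.comp_assoc, fT]
      rfl
    · have r := hy.map f
      rw [fy, show f.comp ((algebraMap T C).comp (aq J loc)) = θ.comp (aq J (χ.comp loc)) by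
        show f.comp ((algebraMap T C).comp (aq J loc)) = _
        rw [← RingHom.comp_assoc, fT]; rfl] at r
      exact r
  · rintro ⟨q', hq', hr⟩ w hw
    obtain ⟨f, f1, f2⟩ := hcu D' (θ.comp χ) q' hq'
    have fy : f.comp y = z := by
      have r := hy.map f
      rw [show f.comp ((algebraMap T C).comp (aq J loc)) = θ.comp (aq J (χ.comp loc)) by
        show f.comp ((algebraMap T C).comp (aq J loc)) = _
        rw [← RingHom.comp_assoc, f1]; rfl,
        show f.comp (aq J qr) = aq J q' by rw [← f2]; rfl] at r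
      exact r.left_unique hr
    have e : ∀ v, l (mapT χA v) = f (Φ v) := fun v => by
      induction v using TensorProduct.induction_on with
      | zero => simp only [map_zero]
      | tmul x v =>
        rw [Algebra.TensorProduct.map_tmul, liftRing_tmul, hΦt, map_mul, ← RingHom.comp_apply f, f1,
          ← RingHom.comp_apply f, fy]
        rfl
      | add w w' hw hw' => simp only [map_add, hw, hw']
    rw [RingHom.mem_ker, ← hlJ]
    have h1 : mapT ψ w ∈ (RingHom.ker Φ.toRingHom).map (mapT χA) := hψ ▸ Ideal.mem_map_of_mem _ hw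
    exact (Ideal.map_le_iff_le_comap.2 (fun v hv => by
      rw [Ideal.mem_comap, RingHom.mem_ker, e, show Φ v = 0 from hv, map_zero]) :
        (RingHom.ker Φ.toRingHom).map (mapT χA) ≤ RingHom.ker l) h1

set_option maxHeartbeats 1600000 in
theorem exists_translate_aux (hJ : IsBasisQuot b P J) (hJ₀ : J.map (mapT ψ₀) = ⊥)
    (hb : Function.Surjective (comb (A := A) b κ))
    (hinj : ∀ (T : Type u) [CommRing T] [Algebra A T] (ψ₁ ψ₂ : P →ₐ[A] T),
      J.map (mapT ψ₁) = J.map (mapT ψ₂) → ψ₁ = ψ₂)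
    (hcl : ∀ (T : Type u) [CommRing T] [Algebra A T] (K : Ideal (T ⊗[A] B)), IsBasisQuot b T K → ∃ γ : T,
        (∀ (T' : Type u) [CommRing T'] [Algebra A T'] (χ : T →ₐ[A] T'), IsUnit (χ γ) →
          ∃ ψ : P →ₐ[A] T', J.map (mapT ψ) = K.map (mapT χ)) ∧
        ∀ (L : Type u) [CommRing L] [Algebra A L] [IsDomain L] (χ : T →ₐ[A] L) (_ι : κ →ₐ[A] L),
          K.map (mapT χ) = ⊥ → χ γ ≠ 0)
    (g₀ : P) (hdiv : ∀ (D : Type u) [CommRing D] (q₁ q₂ : Piece J →+* D), hq J q₁ = hq J q₂ →
      IsUnit (hq J q₁ g₀) → ∃ y, c.Rel y (aq J q₁) (aq J q₂))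
    {T : Type u} [CommRing T] [Algebra A T] (loc : Piece J →+* T) (hlu : IsUnit (hq J loc g₀))
    (hT : algebraMap A T = (aq J loc).comp c.tB) :
    ∃ γ : T, (∀ (D : Type u) [CommRing D] (χ : T →+* D), IsUnit (χ γ) → ∃ h₂, Tr c J (χ.comp loc) h₂) ∧
      ∀ (L : Type u) [Field L] (χ : T →+* L), RingHom.ker (hq J (χ.comp loc)) = RingHom.ker ψ₀.toRingHom →
        χ γ ≠ 0 ∧ ∀ h₂, Tr c J (χ.comp loc) h₂ → RingHom.ker h₂ = RingHom.ker ψ₀.toRingHom := by
  classical
  obtain ⟨C, _, _, qr, bas, y, Φ, hΦt, hΦ, hqr, hy, hcu⟩ := exists_graph b hJ g₀ hdiv loc hlu hT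
  obtain ⟨δ, hδ, hδL⟩ := exists_det b bas Φ hΦ
  let T₁ := Localization.Away δ
  let χ₁ : T →ₐ[A] T₁ := IsScalarTower.toAlgHom A T T₁
  obtain ⟨γ₁, hγ, hγL⟩ := hcl T₁ _ (hδ T₁ χ₁ (IsLocalization.Away.algebraMap_isUnit δ))
  obtain ⟨⟨a, ⟨d, k, rfl⟩⟩, hak⟩ := IsLocalization.surj (Submonoid.powers δ) γ₁
  refine ⟨δ * a, fun D _ χ hu => ?_, fun L _ χ hker => ?_⟩
  · rw [map_mul, IsUnit.mul_iff] at hu
    letI : Algebra A D := (χ.comp (algebraMap A T)).toAlgebra
    let χA : T →ₐ[A] D := { χ with commutes' := fun _ => rfl }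
    let χ' : T₁ →ₐ[A] D :=
      IsLocalization.liftAlgHom (S := T₁) (M := Submonoid.powers δ) (f := χA) (by
        rintro ⟨_, i, rfl⟩
        show IsUnit (χA (δ ^ i))
        rw [map_pow]
        exact hu.1.pow i)
    have hχ' : χ'.comp χ₁ = χA := AlgHom.ext fun x => IsLocalization.lift_eq _ _
    obtain ⟨ψ, hψ⟩ := hγ D χ' (by
      have := congrArg χ' hak
      rw [map_mul] at this
      refine isUnit_of_mul_isUnit_left (y := χ' (algebraMap T T₁ (δ ^ k))) ?_
      rw [this, show χ' (algebraMap T T₁ a) = χ a from AlgHom.congr_fun hχ' a]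
      exact hu.2)
    rw [map_mapT, hχ'] at hψ
    exact ⟨ψ.toRingHom, tr_of_map_eq loc hT hΦt hΦ hqr hy hcu χA χ rfl ψ hψ⟩
  · have hkA : RingHom.ker (χ.comp (algebraMap A T)) = RingHom.ker (algebraMap A κ) := by
      rw [hT]
      exact hC.tgt L (aq J (χ.comp loc)) (by rw [aq_alg]; exact ker_comp_algebraMap ψ₀ hker)
    letI : Algebra A L := (χ.comp (algebraMap A T)).toAlgebra
    obtain ⟨ι⟩ := hC.hι L hkA
    let χA : T →ₐ[A] L := { χ with commutes' := fun _ => rfl }
    have hsL : Function.Surjective (comb (A := A) b L) := fun z => by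
      induction z using TensorProduct.induction_on with
      | zero => exact ⟨0, map_zero _⟩
      | tmul t y =>
        obtain ⟨v, hv⟩ := hb ((1 : κ) ⊗ₜ[A] y)
        refine ⟨t • (ι ∘ v), ?_⟩
        rw [map_smul, ← mapT_comb, hv, Algebra.TensorProduct.map_tmul, map_one, AlgHom.id_apply,
          ← tmul_eq_algebraMap_mul]
      | add z z' hz hz' =>
        obtain ⟨v, rfl⟩ := hz
        obtain ⟨v', rfl⟩ := hz'
        exact ⟨v + v', map_add _ _ _⟩
    obtain ⟨hδ0, hbot⟩ := hδL L χA hsL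
    let χ' : T₁ →ₐ[A] L :=
      IsLocalization.liftAlgHom (S := T₁) (M := Submonoid.powers δ) (f := χA) (by
        rintro ⟨_, i, rfl⟩
        show IsUnit (χA (δ ^ i))
        rw [map_pow]
        exact (isUnit_iff_ne_zero.2 hδ0).pow i)
    have hχ' : χ'.comp χ₁ = χA := AlgHom.ext fun x => IsLocalization.lift_eq _ _
    have hbot' : ((RingHom.ker Φ.toRingHom).map (mapT χ₁)).map (mapT χ') = ⊥ := by rw [map_mapT, hχ', hbot]
    have hγ0 := hγL L χ' ι hbot'
    refine ⟨?_, fun h₂ H => ?_⟩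
    · rw [map_mul]
      refine mul_ne_zero hδ0 fun ha => hγ0 ?_
      have := congrArg χ' hak
      rw [map_mul, show χ' (algebraMap T T₁ a) = χ a from AlgHom.congr_fun hχ' a, ha] at this
      refine (mul_eq_zero.1 this).resolve_right ?_
      rw [show χ' (algebraMap T T₁ (δ ^ k)) = χA (δ ^ k) from AlgHom.congr_fun hχ' _, map_pow]
      exact pow_ne_zero _ hδ0
    · obtain ⟨ψ, hψ⟩ := hγ L χ' (isUnit_iff_ne_zero.2 hγ0)
      rw [map_mapT, hχ'] at hψ
      rw [H.unique hinj (tr_of_map_eq loc hT hΦt hΦ hqr hy hcu χA χ rfl ψ hψ)]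
      have e2 : ψ = ι.comp ψ₀ := hinj L _ _ (by rw [hψ, hbot, ← map_mapT, hJ₀, Ideal.map_bot])
      rw [e2]
      show RingHom.ker (ι.toRingHom.comp ψ₀.toRingHom) = _
      rw [← RingHom.comap_ker, (RingHom.injective_iff_ker_eq_bot _).1 ι.toRingHom.injective,
        ← RingHom.ker_eq_comap_bot]

end Groth.Agent.Stk19b.GrpdSplit
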